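import Cfsg.Agent.Lib.ThreeAmalgam.Bound.Check
import Cfsg.Agent.Lib.ThreeAmalgam.Bound.BadOneData

/-!
Kernel check of one of the enumerations.
-/

set_option maxRecDepth 100000

namespace CfsgLib.ThreeAmalgam.Bound.BadOne

theorem ok : checkTable badOne cert = true := by decide +kernel

end CfsgLib.ThreeAmalgam.Bound.BadOne
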