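import Cfsg.Agent.Lib.ThreeAmalgam.Bound.Kinds

/-!
Certificate of one of the enumerations (generated data).
-/

set_option maxRecDepth 100000
set_option maxHeartbeats 1000000

namespace CfsgLib.ThreeAmalgam.Bound.BadZero

/-- deductions -/
def items0 : List Item :=
  [.sub 1, .sub 2, .sub 3, .sub 4, .sub 5, .sub 6, .defn 1, .tie (0, 0) [.e 0 true 0] [.f 0 true,
  .e 0 true 1] none, .tie (0, 0) [.e 0 true 0] [.f 1 true, .e 0 true 2] none, .tie (0, 0) [.e 0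
  true 0] [.f 2 true, .e 0 true 3] none, .tie (0, 0) [.e 0 true 0] [.f 4 true, .e 0 true 4] none,
  .edge (0, 0) [.e 0 true 0, .l 4] [.l 4, .f 3 true, .e 0 true 0, .l 4] 0, .defn 2, .tie (1, 6)
  [.e 2 true 0] [.f 6 true, .f 7 true, .e 2 true 1] none, .tie (1, 6) [.e 2 true 0] [.f 6 true, .e
  2 true 2] none, .edge (1, 6) [.e 2 true 0, .l 4] [.l 4, .f 6 true, .f 9 true, .e 2 true 0, .l 4]
  0, .defn 3, .tie (2, 6) [.e 4 true 0] [.f 11 true, .f 12 true, .e 4 true 1] none, .tie (2, 6)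
  [.e 4 true 0] [.f 11 true, .e 4 true 2] none, .tie (0, 0) [.e 0 true 0, .l 1, .f 6 true, .f 7
  true, .e 0 false 0, .l 1, .l 6, .l 2, .f 1 true, .f 5 true, .e 0 true 0, .l 1, .l 6, .l 2, .l 1,
  .f 6 true, .e 2 true 0, .l 2, .l 6, .f 12 true, .e 4 true 0, .l 1, .l 6, .l 2] [.l 1, .f 0 true,
  .e 0 true 0, .l 1, .l 6, .l 2, .f 7 true, .e 2 true 0, .l 1, .l 2, .l 6, .l 1, .f 12 true, .e 4
  true 0] (some 1), .defn 4, .tie (2, 20) [.e 5 true 0] [.f 11 true, .e 5 true 2] none, .edge (2,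
  6) [.e 4 true 0, .l 4] [.l 4, .f 11 true, .f 12 true, .e 5 true 1, .l 4] 0, .edge (2, 20) [.e 5
  true 0, .l 4] [.l 4, .f 11 true, .f 12 true, .e 5 true 0, .l 4] 0, .defn 5, .tie (2, 28) [.e 8
  true 0] [.f 11 true, .f 12 true, .e 8 true 1] none, .edge (1, 4) [.e 1 true 0, .l 1, .e 1 true
  1, .l 1, .l 6, .l 2, .f 6 true, .f 7 true, .e 2 true 3, .l 1, .l 6, .l 2, .l 1, .f 12 true, .e 8
  true 0, .l 2, .l 6] [.l 1, .e 1 true 1, .l 1, .l 6, .l 2, .f 6 true, .f 7 true, .e 2 true 3, .l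
  1, .l 2, .l 6, .l 1, .f 11 true, .e 8 true 0, .l 2, .l 6, .l 1] 1, .tie (2, 5) [.e 2 false 4, .l
  1, .f 6 true, .e 2 true 3, .l 1, .l 6, .l 2, .f 11 true, .e 8 true 0, .l 1, .l 6, .l 2, .l 1, .e
  9 true 1, .l 2, .l 6, .f 20 true, .e 8 false 1, .l 1, .l 6, .l 2, .f 11 true, .f 12 true, .e 2
  false 4, .l 1, .l 6, .l 2, .l 1, .e 1 true 0, .l 2, .l 6, .l 1, .f 6 true, .e 2 true 3, .l 1] []
  (some 1), .tie (2, 0) [.e 2 false 0] [.f 22 true, .f 12 true, .e 2 false 4] none, .tie (1, 0)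
  [.e 0 false 0] [.f 7 true, .f 23 true, .e 1 true 0] none, .tie (1, 0) [] [.f 24 false] none,
  .tie (0, 0) [.e 0 true 0] [.f 5 true, .f 3 true, .f 25 false, .e 2 true 0] none, .tie (2, 0) []
  [.f 26 false, .f 25 true] none, .tie (0, 0) [.e 0 true 0] [.f 5 true, .f 3 true, .f 27 false, .e
  4 true 0] none, .tie (3, 0) [] [.f 28 false, .f 25 true] none, .tie (0, 0) [.e 0 true 0] [.f 2
  true, .f 3 true, .f 5 true, .f 27 false, .e 5 true 0] none, .tie (4, 0) [] [.f 30 false, .f 25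
  true] none, .tie (0, 0) [.e 0 true 0] [.f 5 true, .f 4 true, .f 3 true, .f 27 false, .e 8 true
  0] none, .tie (5, 0) [] [.f 32 false, .f 25 true] none]

/-- the closing paths -/
def rows0 : List (List (List Step × Nat)) :=
  [[([.l 1, .f 0 true], 0), ([.l 2, .f 1 true], 0), ([.l 3, .f 2 true], 0), ([.l 4, .f 3 true],
  0), ([.l 5, .f 4 true], 0), ([.l 6, .f 5 true], 0), ([.e 0 true 0, .f 25 true, .f 3 true], 0)]]

/-- the certificate -/
def cert : Table where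
  defs :=
    [(0, 0), (1, 6), (2, 6), (2, 20), (2, 28)]
  items := items0
  reps :=
    [(0, 0)]
  rows := rows0

end CfsgLib.ThreeAmalgam.Bound.BadZero
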