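import Cfsg.Agent.Lib.ThreeAmalgam.Bound.Check

/-!
# Soundness of the enumerations over the first group
-/

set_option autoImplicit false
set_option maxRecDepth 100000

namespace CfsgLib.ThreeAmalgam.Bound

universe u

theorem dom_check : (domTab.all fun e =>
    Nat.blt e.1 432 && Nat.blt e.2.1 432 && Nat.beq (walkA 0 e.2.2.1) e.1 &&
      Nat.beq (walkA 0 e.2.2.2) e.2.1 && e.2.2.1.all (fun x => Nat.blt x 5) &&
      e.2.2.2.all (fun x => Nat.blt x 5) &&
      Nat.beq (walkB 0 (5 :: e.2.2.1 ++ [5])) (walkB 0 e.2.2.2)) = true := by decide +kernel

/-- the letters of the relator of the second group -/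
def brelWord : List Nat :=
  brelTab.flatMap fun o => match o with
    | none => [5]
    | some e => e.2

theorem brel_check : ((brelTab.all fun o => match o with
      | none => true
      | some e => Nat.blt e.1 432 && Nat.beq (walkA 0 e.2) e.1 && e.2.all (fun x => Nat.blt x 5)) &&
    Nat.beq (walkB 0 brelWord) 0) = true := by decide +kernel

theorem sel_same : ∀ x < 5, selA x = selB x := by decide +kernel

theorem selA_letter : ∀ k : Fin 7, k ≠ 6 → k.1 < 6 ∧ selA k.1 = k := by decide +kernel

theorem selA_ne : ∀ x < 6, selA x ≠ 6 := by decide +kernel

variable {Q : Type u} [Group Q] {L : Fin 7 → Q} (P : Planes L)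

/-- the value of a token -/
def tokVal : Tok → Q
  | none => L 6
  | some m => P.vA m

/-- the value of a list of tokens -/
def toksVal (l : List Tok) : Q := (l.map (tokVal P)).prod

/-- the subgroup of the first six letters -/
abbrev six (L : Fin 7 → Q) : Subgroup Q := Subgroup.closure (L '' {k | k ≠ 6})

/-- the same right coset -/
def Eqv (L : Fin 7 → Q) (x y : Q) : Prop := x * y⁻¹ ∈ six L

theorem Eqv.trans {x y w : Q} (h : Eqv L x y) (h' : Eqv L y w) : Eqv L x w := by
  have := mul_mem (h : x * y⁻¹ ∈ six L) h'
  show x * w⁻¹ ∈ six L
  simpa [mul_assoc] using this

theorem Eqv.symm {x y : Q} (h : Eqv L x y) : Eqv L y x := by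
  have := inv_mem (h : x * y⁻¹ ∈ six L)
  show y * x⁻¹ ∈ six L
  simpa using this

theorem Eqv.refl (x : Q) : Eqv L x x := by simp [Eqv, one_mem]

theorem Eqv.mul_right {x y : Q} (h : Eqv L x y) (q : Q) : Eqv L (x * q) (y * q) := by
  have h' : x * y⁻¹ ∈ six L := h
  show x * q * (y * q)⁻¹ ∈ six L
  simpa [mul_assoc] using h'

theorem vA_mem : ∀ {a : Nat}, a < 432 → P.vA a ∈ six L := fun {a} ha => by
  rw [P.vA_word ha]
  refine Subgroup.list_prod_mem _ fun q hq => ?_
  obtain ⟨x, hx, rfl⟩ := List.mem_map.1 hq
  exact Subgroup.subset_closure ⟨selA x, selA_ne x ((Planes.word_lt ha).1 x hx), rfl⟩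

theorem dom_spec {i v w : Nat} {a b : List Nat} (h : domTab[i]? = some (v, w, a, b)) :
    v < 432 ∧ w < 432 ∧ P.vA v * L 6 = L 6 * P.vA w ∧ P.vA w * L 6 = L 6 * P.vA v := by
  have hc := List.all_eq_true.1 dom_check _ (List.mem_of_getElem? h)
  simp only [Bool.and_eq_true, Nat.blt_eq, List.all_eq_true] at hc
  obtain ⟨⟨⟨⟨⟨⟨hv, hw⟩, ev⟩, ew⟩, ha⟩, hb⟩, eB⟩ := hc
  have ev' := Nat.eq_of_beq_eq_true ev
  have ew' := Nat.eq_of_beq_eq_true ew
  have val : ∀ l : List Nat, (∀ x ∈ l, x < 5) →
      P.vA (walkA 0 l) = (l.map fun x => L (selB x)).prod := by
    intro l hl
    rw [← (P.walkA_spec l (fun x hx => by have := hl x hx; omega) 0 (by norm_num)).2, P.zero,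
      one_mul]
    exact congrArg _ (List.map_congr_left fun x hx => by rw [sel_same x (hl x hx)])
  have key : L 6 * P.vA v * L 6 = P.vA w := by
    have h1 := (P.walkB_spec (5 :: a ++ [5]) (fun x hx => by
      simp only [List.cons_append, List.mem_cons, List.mem_append, List.not_mem_nil,
        or_false] at hx
      rcases hx with rfl | hx | rfl
      · norm_num
      · have := ha x hx; omega
      · norm_num) 0 (by norm_num)).2
    have h2 := (P.walkB_spec b (fun x hx => by have := hb x hx; omega) 0 (by norm_num)).2
    rw [Nat.eq_of_beq_eq_true eB, ← h2, P.zeroB, one_mul, one_mul] at h1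
    simp only [List.cons_append, List.map_cons, List.map_append, List.map_nil, List.prod_cons,
      List.prod_append, List.prod_nil, mul_one, show selB 5 = 6 from rfl] at h1
    rw [← ev', ← ew', val a ha, val b hb, ← h1, mul_assoc]
  refine ⟨hv, hw, ?_, ?_⟩
  · rw [← key, ← mul_assoc, ← mul_assoc, P.invol, one_mul]
  · rw [← key, mul_assoc, P.invol, mul_one]

/-- the value of a position -/
def den (W : Nat → Q) (p : Nat × Nat) : Q := W p.1 * P.vA p.2

/-- the meaning of a state -/
structure Good (W : Nat → Q) (st : State) : Prop where
  facts : ∀ e ∈ st.facts, e.2.1 < 432 ∧ Eqv L (W e.1 * P.vA e.2.1) (W e.2.2)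
  seeds : ∀ e ∈ st.seeds, e.1.2 < 432 ∧ e.2.2 < 432 ∧ Eqv L (den P W e.1 * L 6) (den P W e.2)

variable {W : Nat → Q} {st : State}

theorem move_spec (hS : Good P W st) {pos pos' : Nat × Nat} (hp : pos.2 < 432) {s : Step}
    (h : move st pos s = some pos') :
    pos'.2 < 432 ∧ Eqv L (den P W pos * toksVal P (reads [s])) (den P W pos') := by
  cases s with
  | f i fw =>
    simp only [move] at h
    cases hi : st.facts[i]? with
    | none => simp [hi] at h
    | some e =>
      obtain ⟨a, s, b⟩ := e
      obtain ⟨hs, he⟩ := hS.facts _ (List.mem_of_getElem? hi)
      simp only [hi] at h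
      simp only [reads, toksVal, List.map_nil, List.prod_nil, mul_one]
      obtain ⟨hi', ei⟩ := P.inv_spec hs
      cases fw with
      | true =>
        cases hb : Nat.beq pos.1 a with
        | false => simp [hb] at h
        | true =>
          simp only [hb, cond_true, Option.some.injEq] at h
          subst h
          obtain ⟨hm, em⟩ := P.mul_spec hi' hp
          refine ⟨hm, ?_⟩
          simp only [den, em, ei, Nat.eq_of_beq_eq_true hb]
          have := he.mul_right ((P.vA s)⁻¹ * P.vA pos.2)
          simpa [mul_assoc] using this
      | false =>
        cases hb : Nat.beq pos.1 b with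
        | false => simp [hb] at h
        | true =>
          simp only [hb, cond_true, cond_false, Option.some.injEq] at h
          subst h
          obtain ⟨hm, em⟩ := P.mul_spec hs hp
          refine ⟨hm, ?_⟩
          simp only [den, em, Nat.eq_of_beq_eq_true hb]
          have := (he.mul_right (P.vA pos.2)).symm
          simpa [mul_assoc] using this
  | e i fw u =>
    simp only [move] at h
    cases hi : st.seeds[i]? with
    | none => simp [hi] at h
    | some e =>
      cases hu : domTab[u]? with
      | none => simp [hi, hu] at h
      | some d =>
        obtain ⟨p, q⟩ := e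
        obtain ⟨v, w, a, b⟩ := d
        obtain ⟨hp1, hq1, he⟩ := hS.seeds _ (List.mem_of_getElem? hi)
        obtain ⟨hv, hw, hvw, hwv⟩ := dom_spec P hu
        simp only [hi, hu] at h
        simp only [reads, toksVal, List.map_cons, List.map_nil, List.prod_cons, List.prod_nil,
          mul_one, tokVal]
        cases fw with
        | true =>
          cases hb : Nat.beq pos.1 p.1 && Nat.beq pos.2 (mulA p.2 v) with
          | false => simp [hb] at h
          | true =>
            simp only [hb, cond_true, Option.some.injEq] at h
            simp only [Bool.and_eq_true] at hb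
            subst h
            obtain ⟨hm, em⟩ := P.mul_spec hq1 hw
            refine ⟨hm, ?_⟩
            simp only [den, em, Nat.eq_of_beq_eq_true hb.1, Nat.eq_of_beq_eq_true hb.2,
              (P.mul_spec hp1 hv).2]
            have := he.mul_right (P.vA w)
            simp only [den, mul_assoc, ← hvw] at this
            simpa [mul_assoc] using this
        | false =>
          cases hb : Nat.beq pos.1 q.1 && Nat.beq pos.2 (mulA q.2 v) with
          | false => simp [hb] at h
          | true =>
            simp only [hb, cond_true, cond_false, Option.some.injEq] at h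
            simp only [Bool.and_eq_true] at hb
            subst h
            obtain ⟨hm, em⟩ := P.mul_spec hp1 hw
            refine ⟨hm, ?_⟩
            simp only [den, em, Nat.eq_of_beq_eq_true hb.1, Nat.eq_of_beq_eq_true hb.2,
              (P.mul_spec hq1 hv).2]
            have := (he.symm.mul_right (P.vA v * L 6))
            simp only [den, mul_assoc] at this
            rw [show L 6 * (P.vA v * L 6) = P.vA w by
              rw [← mul_assoc, ← hwv, mul_assoc, P.invol, mul_one]] at this
            simpa [mul_assoc] using this
  | l m =>
    simp only [move] at h
    cases hb : Nat.blt m 432 with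
    | false => simp [hb] at h
    | true =>
      simp only [hb, cond_true, Option.some.injEq] at h
      subst h
      obtain ⟨hm, em⟩ := P.mul_spec hp (Nat.blt_eq.mp hb)
      refine ⟨hm, ?_⟩
      simp only [den, em, reads, toksVal, List.map_cons, List.map_nil, List.prod_cons,
        List.prod_nil, mul_one, tokVal, mul_assoc]
      exact Eqv.refl _

theorem reads_cons (s : Step) (l : List Step) : reads (s :: l) = reads [s] ++ reads l := by
  cases s <;> rfl

theorem run_spec (hS : Good P W st) : ∀ (l : List Step) {pos pos' : Nat × Nat}, pos.2 < 432 →
    runPath st pos l = some pos' →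
    pos'.2 < 432 ∧ Eqv L (den P W pos * toksVal P (reads l)) (den P W pos')
  | [], pos, pos', hp, h => by
    simp only [runPath, Option.some.injEq] at h
    subst h
    exact ⟨hp, by simpa [reads, toksVal] using Eqv.refl _⟩
  | s :: l, pos, pos', hp, h => by
    simp only [runPath] at h
    cases hm : move st pos s with
    | none => simp [hm] at h
    | some q =>
      simp only [hm] at h
      obtain ⟨hq, e1⟩ := move_spec P hS hp hm
      obtain ⟨hq', e2⟩ := run_spec hS l hq h
      refine ⟨hq', ?_⟩
      rw [reads_cons, toksVal, List.map_append, List.prod_append, ← mul_assoc]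
      exact (e1.mul_right _).trans e2

theorem tokEq_eq : ∀ {a b : List Tok}, tokEq a b = true → a = b
  | [], [], _ => rfl
  | none :: a, none :: b, h => by rw [tokEq_eq (a := a) (b := b) h]
  | some m :: a, some k :: b, h => by
    simp only [tokEq, Bool.and_eq_true] at h
    rw [Nat.eq_of_beq_eq_true h.1, tokEq_eq h.2]
  | [], _ :: _, h | none :: _, [], h | some _ :: _, [], h | none :: _, some _ :: _, h
  | some _ :: _, none :: _, h => by simp [tokEq] at h

theorem invToks_val {l : List Tok} (hl : ∀ m, some m ∈ l → m < 432) :
    toksVal P (invToks l) = (toksVal P l)⁻¹ := by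
  induction l with
  | nil => simp [invToks, toksVal]
  | cons t l ih =>
    have ih' := ih fun m hm => hl m (List.mem_cons_of_mem _ hm)
    simp only [invToks, toksVal, List.reverse_cons, List.map_append, List.prod_append,
      List.map_cons, List.map_nil, List.prod_cons, List.prod_nil, mul_one,
      _root_.mul_inv_rev] at ih' ⊢
    rw [ih']
    cases t with
    | none => simp [tokVal, inv_eq_of_mul_eq_one_right (P.invol 6)]
    | some m => simp [tokVal, (P.inv_spec (hl m List.mem_cons_self)).2]

theorem reads_lt : ∀ (l : List Step) {pos pos' : Nat × Nat},
    runPath st pos l = some pos' → ∀ m, some m ∈ reads l → m < 432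
  | [], _, _, _, m, hm => by simp [reads] at hm
  | s :: l, pos, pos', h, m, hm => by
    simp only [runPath] at h
    cases hq : move st pos s with
    | none => simp [hq] at h
    | some q =>
      simp only [hq] at h
      rw [reads_cons] at hm
      rcases List.mem_append.1 hm with hm | hm
      · cases s with
        | f i fw => simp [reads] at hm
        | e i fw u => simp [reads] at hm
        | l m' =>
          simp only [reads, List.mem_singleton, Option.some.injEq] at hm
          simp only [move] at hq
          cases hb : Nat.blt m' 432 with
          | false => simp [hb] at hq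
          | true => exact hm ▸ Nat.blt_eq.mp hb
      · exact reads_lt l h m hm

theorem apply_spec {RS : List (List Tok)} (hRS : ∀ R ∈ RS, toksVal P R = 1)
    {defs : List (Nat × Nat)} (hW0 : W 0 = 1)
    (hW : ∀ j p, defs[j]? = some p → W (j + 1) = den P W p * L 6)
    (hS : Good P W st) {it : Item} {st' : State} (h : apply RS defs st it = some st') :
    Good P W st' := by
  have hzero : P.vA 0 = 1 := P.zero
  cases it with
  | sub a =>
    simp only [apply] at h
    cases hb : Nat.blt a 432 with
    | false => simp [hb] at h
    | true =>
      simp only [hb, cond_true, Option.some.injEq] at h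
      subst h
      refine ⟨fun e he => ?_, hS.seeds⟩
      rcases List.mem_append.1 he with he | he
      · exact hS.facts e he
      · rw [List.mem_singleton] at he
        subst he
        refine ⟨Nat.blt_eq.mp hb, ?_⟩
        show W 0 * P.vA a * (W 0)⁻¹ ∈ six L
        simpa [hW0] using vA_mem P (Nat.blt_eq.mp hb)
  | defn k =>
    cases k with
    | zero => simp [apply] at h
    | succ j =>
      simp only [apply] at h
      cases hp : defs[j]? with
      | none => simp [hp] at h
      | some p =>
        simp only [hp] at h
        cases hb : Nat.blt p.2 432 && Nat.ble p.1 j with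
        | false => simp [hb] at h
        | true =>
          simp only [hb, cond_true, Option.some.injEq] at h
          simp only [Bool.and_eq_true, Nat.blt_eq] at hb
          subst h
          refine ⟨hS.facts, fun e he => ?_⟩
          rcases List.mem_append.1 he with he | he
          · exact hS.seeds e he
          · rw [List.mem_singleton] at he
            subst he
            refine ⟨hb.1, by norm_num, ?_⟩
            show Eqv L (den P W p * L 6) (W (j + 1) * P.vA 0)
            rw [hW j p hp, hzero, mul_one]
            exact Eqv.refl _
  | tie start p q rel =>
    simp only [apply] at h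
    cases hb : Nat.blt start.2 432 with
    | false => simp [hb] at h
    | true =>
      simp only [hb, cond_true] at h
      cases hp : runPath st start p with
      | none => simp [hp] at h
      | some b1 =>
        cases hq : runPath st start q with
        | none => simp [hp, hq] at h
        | some b2 =>
          simp only [hp, hq] at h
          obtain ⟨h1, e1⟩ := run_spec P hS p (Nat.blt_eq.mp hb) hp
          obtain ⟨h2, e2⟩ := run_spec P hS q (Nat.blt_eq.mp hb) hq
          cases hc : relOK RS rel p q with
          | false => simp [hc] at h
          | true =>
            simp only [hc, cond_true, Option.some.injEq] at h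
            subst h
            have heq : toksVal P (reads p) = toksVal P (reads q) := by
              cases rel with
              | none => rw [tokEq_eq (show tokEq (reads p) (reads q) = true from hc)]
              | some r =>
                simp only [relOK] at hc
                cases hr : RS[r]? with
                | none => simp [hr] at hc
                | some R =>
                  simp only [hr] at hc
                  have := hRS R (List.mem_of_getElem? hr)
                  rw [← tokEq_eq hc] at this
                  simp only [toksVal, List.map_append, List.prod_append] at this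
                  rw [show ((invToks (reads q)).map (tokVal P)).prod = (toksVal P (reads q))⁻¹ from
                    invToks_val P (reads_lt q hq)] at this
                  exact mul_inv_eq_one.1 this
            refine ⟨fun e he => ?_, hS.seeds⟩
            rcases List.mem_append.1 he with he | he
            · exact hS.facts e he
            · rw [List.mem_singleton] at he
              subst he
              obtain ⟨hi, ei⟩ := P.inv_spec h2
              obtain ⟨hm, em⟩ := P.mul_spec h1 hi
              refine ⟨hm, ?_⟩
              rw [heq] at e1
              have := (e1.symm.trans e2).mul_right (P.vA b2.2)⁻¹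
              show Eqv L (W b1.1 * P.vA (mulA b1.2 (invA b2.2))) (W b2.1)
              simpa [den, em, ei, mul_assoc] using this
  | edge start p q r =>
    simp only [apply] at h
    cases hb : Nat.blt start.2 432 with
    | false => simp [hb] at h
    | true =>
      simp only [hb, cond_true] at h
      cases hp : runPath st start p with
      | none => simp [hp] at h
      | some b1 =>
        cases hq : runPath st start q with
        | none => simp [hp, hq] at h
        | some b2 =>
          cases hr : RS[r]? with
          | none => simp [hp, hq, hr] at h
          | some R =>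
            simp only [hp, hq, hr] at h
            cases hc : tokEq (reads p ++ none :: invToks (reads q)) R with
            | false => simp [hc] at h
            | true =>
              simp only [hc, cond_true, Option.some.injEq] at h
              subst h
              obtain ⟨h1, e1⟩ := run_spec P hS p (Nat.blt_eq.mp hb) hp
              obtain ⟨h2, e2⟩ := run_spec P hS q (Nat.blt_eq.mp hb) hq
              have hR := hRS R (List.mem_of_getElem? hr)
              rw [← tokEq_eq hc] at hR
              simp only [toksVal, List.map_append, List.map_cons, List.prod_append,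
                List.prod_cons] at hR
              rw [show ((invToks (reads q)).map (tokVal P)).prod = (toksVal P (reads q))⁻¹ from
                invToks_val P (reads_lt q hq), ← mul_assoc, mul_inv_eq_one] at hR
              refine ⟨fun e he => ?_, fun e he => ?_⟩
              · rcases List.mem_append.1 he with he | he
                · exact hS.facts e he
                · rw [List.mem_singleton] at he
                  subst he
                  refine ⟨by norm_num, ?_⟩
                  show Eqv L (W 0 * P.vA 0) (W 0)
                  rw [hzero, mul_one]
                  exact Eqv.refl _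
              · rcases List.mem_append.1 he with he | he
                · exact hS.seeds e he
                · rw [List.mem_singleton] at he
                  subst he
                  refine ⟨h1, h2, ?_⟩
                  have := e1.symm.mul_right (tokVal P none)
                  rw [mul_assoc (den P W start), show toksVal P (reads p) * tokVal P none =
                    toksVal P (reads q) from hR] at this
                  exact this.trans e2

theorem applyAll_spec {RS : List (List Tok)} (hRS : ∀ R ∈ RS, toksVal P R = 1)
    {defs : List (Nat × Nat)} (hW0 : W 0 = 1)
    (hW : ∀ j p, defs[j]? = some p → W (j + 1) = den P W p * L 6) :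
    ∀ (l : List Item) {st : State}, Good P W st → ∀ {st'}, applyAll RS defs st l = some st' →
      Good P W st'
  | [], st, hS, st', h => by
    simp only [applyAll, Option.some.injEq] at h
    exact h ▸ hS
  | i :: l, st, hS, st', h => by
    simp only [applyAll] at h
    cases hi : apply RS defs st i with
    | none => simp [hi] at h
    | some s =>
      simp only [hi] at h
      exact applyAll_spec hRS hW0 hW l (apply_spec P hRS hW0 hW hS hi) h

omit W in
/-- The values of the nodes exist. -/
theorem exists_nodes : ∀ (defs : List (Nat × Nat)), defsOK 0 defs = true →
    ∃ W : Nat → Q, W 0 = 1 ∧ ∀ j p, defs[j]? = some p → W (j + 1) = den P W p * L 6 := by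
  intro defs hd
  have hlt : ∀ (l : List (Nat × Nat)) (n : Nat), defsOK n l = true → ∀ j p,
      l[j]? = some p → p.1 ≤ n + j := by
    intro l
    induction l with
    | nil => intro n _ j p hj; simp at hj
    | cons a l ih =>
      intro n h j p hj
      simp only [defsOK, Bool.and_eq_true] at h
      rcases j with _ | j
      · simp only [List.getElem?_cons_zero, Option.some.injEq] at hj
        subst hj
        exact Nat.le_of_ble_eq_true h.1.1
      · simp only [List.getElem?_cons_succ] at hj
        have := ih (n + 1) h.2 j p hj
        omega
  have hlt' := hlt defs 0 hd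
  clear hd hlt
  induction defs using List.reverseRecOn with
  | nil => exact ⟨fun _ => 1, rfl, fun j p h => by simp at h⟩
  | append_singleton l a ih =>
    obtain ⟨W, h0, hW⟩ := ih fun j p hj => hlt' j p (by
      rw [List.getElem?_append_left (List.getElem?_eq_some_iff.1 hj).1]; exact hj)
    refine ⟨Function.update W (l.length + 1) (den P W a * L 6),
      by rw [Function.update_of_ne (by omega), h0], fun j p hj => ?_⟩
    have hp := hlt' j p hj
    rcases lt_or_ge j l.length with hjl | hjl
    · rw [List.getElem?_append_left hjl] at hj
      rw [Function.update_of_ne (by omega), hW j p hj]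
      simp only [den]
      rw [Function.update_of_ne (by omega)]
    · rw [List.getElem?_append_right hjl] at hj
      rcases Nat.eq_zero_or_pos (j - l.length) with h | h
      · obtain rfl : j = l.length := by omega
        simp only [Nat.sub_self, List.getElem?_cons_zero, Option.some.injEq] at hj
        subst hj
        rw [Function.update_self]
        simp only [den]
        rw [Function.update_of_ne (by omega)]
      · rw [List.getElem?_eq_none (by simp; omega)] at hj
        simp at hj

theorem letTok_spec (k : Fin 7) : toksVal P [letTok k.1] = L k := by
  by_cases h : k = 6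
  · subst h
    simp [toksVal, tokVal, letTok]
  · obtain ⟨h1, h2⟩ := selA_letter k h
    have hne : Nat.beq k.1 6 = false :=
      Bool.eq_false_iff.2 fun e => h (Fin.ext (Nat.eq_of_beq_eq_true e))
    obtain ⟨-, e⟩ := P.walkA_spec [k.1] (by simpa using h1) 0 (by norm_num)
    simp only [toksVal, letTok, hne, cond_false, List.map_cons, List.map_nil, List.prod_cons,
      List.prod_nil, mul_one, tokVal]
    rw [← e, P.zero]
    simp [h2]

theorem relTab_spec {key : List (Fin 7)} (hk : val L key = 1) :
    ∀ R ∈ relTab key, toksVal P R = 1 := by
  intro R hR
  simp only [relTab, List.mem_cons, List.not_mem_nil, or_false] at hR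
  rcases hR with rfl | rfl | rfl
  · have h := brel_check
    simp only [Bool.and_eq_true, List.all_eq_true] at h
    obtain ⟨h1, h2⟩ := h
    have hw : ∀ x ∈ brelWord, x < 6 := by
      intro x hx
      obtain ⟨o, ho, hxo⟩ := List.mem_flatMap.1 hx
      cases o with
      | none => simp only [List.mem_singleton] at hxo; omega
      | some e =>
        have := h1 _ ho
        simp only [Bool.and_eq_true, List.all_eq_true, Nat.blt_eq] at this
        have := this.2 x hxo
        omega
    obtain ⟨-, e⟩ := P.walkB_spec brelWord hw 0 (by norm_num)
    rw [Nat.eq_of_beq_eq_true h2, P.zeroB, one_mul] at e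
    rw [← e, toksVal]
    unfold brelWord
    generalize brelTab = T at h1
    induction T with
    | nil => simp
    | cons o T ih =>
      simp only [List.map_cons, List.prod_cons, List.flatMap_cons, List.map_append,
        List.prod_append, ih fun o ho => h1 o (List.mem_cons_of_mem _ ho)]
      congr 1
      cases o with
      | none => simp [tokVal, show selB 5 = 6 from rfl]
      | some x =>
        have := h1 _ List.mem_cons_self
        simp only [Bool.and_eq_true, List.all_eq_true, Nat.blt_eq] at this
        simp only [Option.map_some, tokVal]
        rw [← Nat.eq_of_beq_eq_true this.1.2,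
          ← (P.walkA_spec x.2 (fun y hy => by have := this.2 y hy; omega) 0 (by norm_num)).2,
          P.zero, one_mul]
        exact congrArg _ (List.map_congr_left fun y hy => by rw [sel_same y (this.2 y hy)])
  · rw [← hk, toksVal, val, List.map_map]
    refine congrArg _ (List.map_congr_left fun k _ => ?_)
    have := letTok_spec P k
    simpa [toksVal, letTok] using this
  · simp [toksVal, tokVal, P.invol]

include P in
/-- A passed check bounds the index of the first group. -/
theorem cosets_of_check (hgen : Subgroup.closure (Set.range L) = ⊤) {key : List (Fin 7)}
    (hk : val L key = 1) {T : Table} (hT : checkTable key T = true) :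
    ∃ d : Fin T.reps.length → Q,
      (∃ i, d i = 1) ∧ ∀ q : Q, ∃ i, Eqv L q (d i) := by
  simp only [checkTable, Bool.and_eq_true] at hT
  obtain ⟨⟨hd, h0⟩, hrows⟩ := hT
  obtain ⟨W, hW0, hW⟩ := exists_nodes P T.defs hd
  cases hst : applyAll (relTab key) T.defs ⟨[], []⟩ T.items with
  | none => simp [hst] at hrows
  | some st =>
    simp only [hst] at hrows
    have hS : Good P W st := applyAll_spec P (relTab_spec P hk) hW0 hW T.items
      ⟨fun e he => by simp at he, fun e he => by simp at he⟩ hst
    have hrow : ∀ (ps : List (Nat × Nat)) (rs : List (List (List Step × Nat))),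
        rowsOK st T.reps ps rs = true → ∀ p ∈ ps, p.2 < 432 ∧
          ∃ r, rowOK st T.reps p 0 r = true := by
      intro ps
      induction ps with
      | nil => intro rs _ p hp; simp at hp
      | cons a ps ih =>
        intro rs h p hp
        cases rs with
        | nil => simp [rowsOK] at h
        | cons r rs =>
          simp only [rowsOK, Bool.and_eq_true, Nat.blt_eq] at h
          rcases List.mem_cons.1 hp with rfl | hp
          · exact ⟨h.1.1, r, h.1.2⟩
          · exact ih rs h.2 p hp
    have hlet : ∀ (r : List (List Step × Nat)) (p : Nat × Nat) (k : Nat), p.2 < 432 →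
        rowOK st T.reps p k r = true → ∀ k' : Fin 7, k ≤ k'.1 →
        ∃ i : Fin T.reps.length, Eqv L (den P W p * L k') (den P W T.reps[i.1]) := by
      intro r
      induction r with
      | nil =>
        intro p k _ h k' hk'
        have := Nat.eq_of_beq_eq_true (by simpa [rowOK] using h : Nat.beq k 7 = true)
        omega
      | cons a r ih =>
        intro p k hp h k' hk'
        obtain ⟨path, j⟩ := a
        simp only [rowOK, Bool.and_eq_true] at h
        rcases Nat.eq_or_lt_of_le hk' with he | hlt
        · cases hr : runPath st p path with
          | none => simp [hr] at h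
          | some q =>
            cases hj : T.reps[j]? with
            | none => simp [hr, hj] at h
            | some x =>
              simp only [hr, hj, Bool.and_eq_true] at h
              obtain ⟨⟨⟨e1, e2⟩, hread⟩, -⟩ := h
              obtain ⟨-, e⟩ := run_spec P hS path hp hr
              obtain ⟨hjl, hjx⟩ := List.getElem?_eq_some_iff.1 hj
              refine ⟨⟨j, hjl⟩, ?_⟩
              rw [tokEq_eq hread, he, letTok_spec P k'] at e
              simp only [hjx]
              rw [show den P W x = den P W q by
                rw [den, den, Nat.eq_of_beq_eq_true e1, Nat.eq_of_beq_eq_true e2]]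
              exact e
        · exact ih p (k + 1) hp h.2 k' hlt
    obtain ⟨h00, e0⟩ : ∃ h : 0 < T.reps.length, den P W T.reps[(0 : ℕ)] = 1 := by
      have hh : ∀ l : List (Nat × Nat), (match l with
          | p :: _ => Nat.beq p.1 0 && Nat.beq p.2 0
          | [] => false) = true → ∃ h : 0 < l.length, den P W (l[(0 : ℕ)]'h) = 1 := by
        intro l hl
        cases l with
        | nil => simp at hl
        | cons p ps =>
          simp only [Bool.and_eq_true] at hl
          refine ⟨by simp, ?_⟩
          simp [den, Nat.eq_of_beq_eq_true hl.1, Nat.eq_of_beq_eq_true hl.2, hW0, P.zero]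
      exact hh T.reps h0
    refine ⟨fun i => den P W T.reps[i.1], ⟨⟨0, h00⟩, e0⟩, fun q => ?_⟩
    have key' : ∀ q ∈ Subgroup.closure (Set.range L), ∀ i : Fin T.reps.length,
        ∃ j : Fin T.reps.length, Eqv L (den P W T.reps[i.1] * q) (den P W T.reps[j.1]) := by
      intro q hq
      induction hq using Subgroup.closure_induction'' with
      | mem q hq =>
        obtain ⟨k, rfl⟩ := hq
        intro i
        obtain ⟨hp, r, hr⟩ := hrow _ _ hrows _ (List.getElem_mem i.2)
        exact hlet r _ 0 hp hr k (Nat.zero_le _)
      | inv_mem q hq =>
        obtain ⟨k, rfl⟩ := hq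
        intro i
        obtain ⟨hp, r, hr⟩ := hrow _ _ hrows _ (List.getElem_mem i.2)
        rw [inv_eq_of_mul_eq_one_right (P.invol k)]
        exact hlet r _ 0 hp hr k (Nat.zero_le _)
      | one => exact fun i => ⟨i, by rw [mul_one]; exact Eqv.refl _⟩
      | mul a b _ _ ha hb =>
        intro i
        obtain ⟨j, hj⟩ := ha i
        obtain ⟨l, hl⟩ := hb j
        exact ⟨l, by rw [← mul_assoc]; exact (hj.mul_right b).trans hl⟩
    obtain ⟨j, hj⟩ := key' q (by rw [hgen]; trivial) ⟨0, h00⟩
    rw [e0, one_mul] at hj
    exact ⟨j, hj⟩

end CfsgLib.ThreeAmalgam.Bound
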