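import Cfsg.Agent.Lib.ThreeAmalgam.Basic

/-!
The letters are involutions as a consequence of the relations of the amalgam.
-/

set_option autoImplicit false
set_option maxHeartbeats 1000000
set_option maxRecDepth 10000

namespace CfsgLib.ThreeAmalgam

universe u

/-- Every letter has square one. -/
theorem letters_sq {Q : Type u} [Group Q] {L : Fin 7 → Q} (hr : ∀ w ∈ base, val L w = 1) :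
    ∀ k, L k * L k = 1 := by
  have sq0 : L 0 * L 0 = 1 := by
    have b18 : L 0 * L 1 * L 0 * L 1 = 1 := by
      simpa [val, mul_assoc] using hr [0, 1, 0, 1] (by decide +kernel)
    have b14 : L 1 * L 4 * L 0 * L 4 * L 1 * L 0 = 1 := by
      simpa [val, mul_assoc] using hr [1, 4, 0, 4, 1, 0] (by decide +kernel)
    have b59 : L 0 * L 4 * L 0 * L 4 = 1 := by
      simpa [val, mul_assoc] using hr [0, 4, 0, 4] (by decide +kernel)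
    calc L 0 * L 0 = ((L 0 * L 1) * ((L 0 * L 1 * L 0 * L 1)⁻¹) * (L 0 * L 1)⁻¹)⁻¹ * (((L 1)⁻¹) * (L 1 * L 4 * L 0 * L 4 * L 1 * L 0) * ((L 1)⁻¹)⁻¹)⁻¹ * ((L 4) * ((L 0 * L 4 * L 0 * L 4)⁻¹) * (L 4)⁻¹)⁻¹ := by group
      _ = 1 := by rw [b18, b14, b59]; group
  have sq1 : L 1 * L 1 = 1 := by
    have b18 : L 0 * L 1 * L 0 * L 1 = 1 := by
      simpa [val, mul_assoc] using hr [0, 1, 0, 1] (by decide +kernel)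
    have b10 : L 0 * L 3 * L 1 * L 3 * L 0 * L 1 = 1 := by
      simpa [val, mul_assoc] using hr [0, 3, 1, 3, 0, 1] (by decide +kernel)
    have b145 : L 1 * L 6 * L 3 * L 1 * L 3 * L 6 = 1 := by
      simpa [val, mul_assoc] using hr [1, 6, 3, 1, 3, 6] (by decide +kernel)
    have b33 : L 1 * L 6 * L 0 * L 1 * L 0 * L 6 = 1 := by
      simpa [val, mul_assoc] using hr [1, 6, 0, 1, 0, 6] (by decide +kernel)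
    calc L 1 * L 1 = ((L 1) * ((L 0 * L 1 * L 0 * L 1)⁻¹) * (L 1)⁻¹)⁻¹ * (((L 0)⁻¹) * (L 0 * L 3 * L 1 * L 3 * L 0 * L 1) * ((L 0)⁻¹)⁻¹)⁻¹ * ((L 3 * L 1 * L 3 * L 6) * ((L 1 * L 6 * L 3 * L 1 * L 3 * L 6)⁻¹) * (L 3 * L 1 * L 3 * L 6)⁻¹)⁻¹ * (((L 6)⁻¹ * (L 1)⁻¹) * (L 1 * L 6 * L 0 * L 1 * L 0 * L 6) * ((L 6)⁻¹ * (L 1)⁻¹)⁻¹)⁻¹ * ((L 0 * L 1) * ((L 0 * L 1 * L 0 * L 1)⁻¹) * (L 0 * L 1)⁻¹)⁻¹ := by group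
      _ = 1 := by rw [b18, b10, b145, b33]; group
  have sq3 : L 3 * L 3 = 1 := by
    have b1 : L 0 * L 3 * L 0 * L 3 * L 0 * L 3 = 1 := by
      simpa [val, mul_assoc] using hr [0, 3, 0, 3, 0, 3] (by decide +kernel)
    have b51 : L 0 * L 3 * L 0 * L 3 * L 1 * L 0 * L 3 * L 1 = 1 := by
      simpa [val, mul_assoc] using hr [0, 3, 0, 3, 1, 0, 3, 1] (by decide +kernel)
    have b10 : L 0 * L 3 * L 1 * L 3 * L 0 * L 1 = 1 := by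
      simpa [val, mul_assoc] using hr [0, 3, 1, 3, 0, 1] (by decide +kernel)
    calc L 3 * L 3 = ((L 3) * ((L 0 * L 3 * L 0 * L 3 * L 0 * L 3)⁻¹) * (L 3)⁻¹)⁻¹ * (((L 0)⁻¹ * (L 3)⁻¹ * (L 0)⁻¹ * (L 3)⁻¹ * (L 0)⁻¹) * (L 0 * L 3 * L 0 * L 3 * L 1 * L 0 * L 3 * L 1) * ((L 0)⁻¹ * (L 3)⁻¹ * (L 0)⁻¹ * (L 3)⁻¹ * (L 0)⁻¹)⁻¹)⁻¹ * (((L 0)⁻¹ * L 1) * ((L 0 * L 3 * L 1 * L 3 * L 0 * L 1)⁻¹) * ((L 0)⁻¹ * L 1)⁻¹)⁻¹ * (((L 0)⁻¹) * (L 0 * L 0) * ((L 0)⁻¹)⁻¹)⁻¹ := by group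
      _ = 1 := by rw [b1, b51, b10, sq0]; group
  have sq2 : L 2 * L 2 = 1 := by
    have b0 : L 0 * L 2 * L 0 * L 2 * L 0 * L 2 = 1 := by
      simpa [val, mul_assoc] using hr [0, 2, 0, 2, 0, 2] (by decide +kernel)
    have b6 : L 0 * L 2 * L 1 * L 2 * L 0 * L 2 * L 0 * L 1 = 1 := by
      simpa [val, mul_assoc] using hr [0, 2, 1, 2, 0, 2, 0, 1] (by decide +kernel)
    have b41 : L 0 * L 2 * L 1 * L 0 * L 2 * L 1 = 1 := by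
      simpa [val, mul_assoc] using hr [0, 2, 1, 0, 2, 1] (by decide +kernel)
    calc L 2 * L 2 = ((L 2) * ((L 0 * L 2 * L 0 * L 2 * L 0 * L 2)⁻¹) * (L 2)⁻¹)⁻¹ * (((L 0)⁻¹ * (L 2)⁻¹ * (L 0)⁻¹ * (L 2)⁻¹ * (L 1)⁻¹ * (L 2)⁻¹ * (L 0)⁻¹) * (L 0 * L 2 * L 1 * L 2 * L 0 * L 2 * L 0 * L 1) * ((L 0)⁻¹ * (L 2)⁻¹ * (L 0)⁻¹ * (L 2)⁻¹ * (L 1)⁻¹ * (L 2)⁻¹ * (L 0)⁻¹)⁻¹)⁻¹ * ((L 1) * ((L 0 * L 2 * L 1 * L 0 * L 2 * L 1)⁻¹) * (L 1)⁻¹)⁻¹ * (((L 2)⁻¹ * (L 0)⁻¹) * (L 0 * L 0) * ((L 2)⁻¹ * (L 0)⁻¹)⁻¹)⁻¹ := by group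
      _ = 1 := by rw [b0, b6, b41, sq0]; group
  have sq4 : L 4 * L 4 = 1 := by
    have b59 : L 0 * L 4 * L 0 * L 4 = 1 := by
      simpa [val, mul_assoc] using hr [0, 4, 0, 4] (by decide +kernel)
    have b124 : L 0 * L 3 * L 4 * L 0 * L 2 * L 3 * L 0 * L 4 = 1 := by
      simpa [val, mul_assoc] using hr [0, 3, 4, 0, 2, 3, 0, 4] (by decide +kernel)
    have b103 : L 3 * L 1 * L 4 * L 0 * L 2 * L 3 * L 4 * L 1 = 1 := by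
      simpa [val, mul_assoc] using hr [3, 1, 4, 0, 2, 3, 4, 1] (by decide +kernel)
    have b10 : L 0 * L 3 * L 1 * L 3 * L 0 * L 1 = 1 := by
      simpa [val, mul_assoc] using hr [0, 3, 1, 3, 0, 1] (by decide +kernel)
    have b18 : L 0 * L 1 * L 0 * L 1 = 1 := by
      simpa [val, mul_assoc] using hr [0, 1, 0, 1] (by decide +kernel)
    calc L 4 * L 4 = ((L 4) * ((L 0 * L 4 * L 0 * L 4)⁻¹) * (L 4)⁻¹)⁻¹ * (((L 0)⁻¹) * (L 0 * L 3 * L 4 * L 0 * L 2 * L 3 * L 0 * L 4) * ((L 0)⁻¹)⁻¹)⁻¹ * ((L 3 * L 4 * L 0 * L 2 * L 3 * L 4 * L 1) * ((L 3 * L 1 * L 4 * L 0 * L 2 * L 3 * L 4 * L 1)⁻¹) * (L 3 * L 4 * L 0 * L 2 * L 3 * L 4 * L 1)⁻¹)⁻¹ * ((L 3) * ((L 3 * L 3)⁻¹) * (L 3)⁻¹)⁻¹ * (((L 3)⁻¹ * (L 1)⁻¹ * (L 3)⁻¹ * (L 0)⁻¹) * (L 0 * L 3 * L 1 * L 3 * L 0 * L 1) * ((L 3)⁻¹ * (L 1)⁻¹ *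 (L 3)⁻¹ * (L 0)⁻¹)⁻¹)⁻¹ * ((L 0 * L 1) * ((L 0 * L 1 * L 0 * L 1)⁻¹) * (L 0 * L 1)⁻¹)⁻¹ * (((L 1)⁻¹) * (L 1 * L 1) * ((L 1)⁻¹)⁻¹)⁻¹ := by group
      _ = 1 := by rw [b59, b124, b103, sq3, b10, b18, sq1]; group
  have sq5 : L 5 * L 5 = 1 := by
    have b24 : L 1 * L 5 * L 1 * L 5 * L 0 = 1 := by
      simpa [val, mul_assoc] using hr [1, 5, 1, 5, 0] (by decide +kernel)
    have b29 : L 5 * L 1 * L 5 * L 1 * L 0 = 1 := by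
      simpa [val, mul_assoc] using hr [5, 1, 5, 1, 0] (by decide +kernel)
    have b19 : L 0 * L 5 * L 1 * L 0 * L 1 * L 5 = 1 := by
      simpa [val, mul_assoc] using hr [0, 5, 1, 0, 1, 5] (by decide +kernel)
    have b18 : L 0 * L 1 * L 0 * L 1 = 1 := by
      simpa [val, mul_assoc] using hr [0, 1, 0, 1] (by decide +kernel)
    calc L 5 * L 5 = ((L 5 * L 0) * ((L 1 * L 5 * L 1 * L 5 * L 0)⁻¹) * (L 5 * L 0)⁻¹)⁻¹ * (((L 1)⁻¹ * (L 5)⁻¹ * (L 1)⁻¹ * (L 5)⁻¹) * (L 5 * L 1 * L 5 * L 1 * L 0) * ((L 1)⁻¹ * (L 5)⁻¹ * (L 1)⁻¹ * (L 5)⁻¹)⁻¹)⁻¹ * ((L 0 * L 5 * (L 0)⁻¹) * (L 0 * L 0) * (L 0 * L 5 * (L 0)⁻¹)⁻¹)⁻¹ * ((L 0 * L 5) * ((L 0 * L 5 * L 1 * L 0 * L 1 * L 5)⁻¹) * (L 0 * L 5)⁻¹)⁻¹ * ((L 0 * (L 1)⁻¹ * (L 0)⁻¹) * (L 0 * L 1 * L 0 * L 1) * (L 0 * (L 1)⁻¹ * (L 0)⁻¹)⁻¹)⁻¹ * ((L 0)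 * ((L 0 * L 0)⁻¹) * (L 0)⁻¹)⁻¹ := by group
      _ = 1 := by rw [b24, b29, sq0, b19, b18]; group
  have sq6 : L 6 * L 6 = 1 := by
    have b32 : L 0 * L 6 * L 0 * L 6 * L 1 = 1 := by
      simpa [val, mul_assoc] using hr [0, 6, 0, 6, 1] (by decide +kernel)
    have b131 : L 1 * L 6 * L 0 * L 6 * L 0 = 1 := by
      simpa [val, mul_assoc] using hr [1, 6, 0, 6, 0] (by decide +kernel)
    have b33 : L 1 * L 6 * L 0 * L 1 * L 0 * L 6 = 1 := by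
      simpa [val, mul_assoc] using hr [1, 6, 0, 1, 0, 6] (by decide +kernel)
    have b18 : L 0 * L 1 * L 0 * L 1 = 1 := by
      simpa [val, mul_assoc] using hr [0, 1, 0, 1] (by decide +kernel)
    calc L 6 * L 6 = ((L 6 * L 1) * ((L 0 * L 6 * L 0 * L 6 * L 1)⁻¹) * (L 6 * L 1)⁻¹)⁻¹ * (((L 0)⁻¹ * (L 6)⁻¹ * (L 0)⁻¹ * (L 6)⁻¹ * (L 1)⁻¹) * (L 1 * L 6 * L 0 * L 6 * L 0) * ((L 0)⁻¹ * (L 6)⁻¹ * (L 0)⁻¹ * (L 6)⁻¹ * (L 1)⁻¹)⁻¹)⁻¹ * ((L 1 * L 6 * (L 1)⁻¹) * (L 1 * L 1) * (L 1 * L 6 * (L 1)⁻¹)⁻¹)⁻¹ * ((L 1 * L 6) * ((L 1 * L 6 * L 0 * L 1 * L 0 * L 6)⁻¹) * (L 1 * L 6)⁻¹)⁻¹ * ((L 1 * (L 0)⁻¹) * (L 0 * L 1 * L 0 * L 1) * (L 1 * (L 0)⁻¹)⁻¹)⁻¹ * ((L 1) * ((L 1 * L 1)⁻¹) * (L 1)⁻¹)⁻¹ := by group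
      _ = 1 := by rw [b32, b131, sq1, b33, b18]; group
  intro k
  fin_cases k
  exacts [sq0, sq1, sq2, sq3, sq4, sq5, sq6]

end CfsgLib.ThreeAmalgam
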