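import Cfsg.Agent.Lib.ThreeAmalgam.Bound.Kinds

/-!
Certificate of one of the enumerations (generated data).
-/

set_option maxRecDepth 100000
set_option maxHeartbeats 1000000

namespace CfsgLib.ThreeAmalgam.Bound.Thirteen

/-- deductions -/
def items0 : List Item :=
  [.sub 1, .sub 2, .sub 3, .sub 4, .sub 5, .sub 6, .defn 1, .tie (0, 0) [.e 0 true 0] [.f 0 true,
  .e 0 true 1] none, .tie (0, 0) [.e 0 true 0] [.f 1 true, .e 0 true 2] none, .tie (0, 0) [.e 0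
  true 0] [.f 2 true, .e 0 true 3] none, .tie (0, 0) [.e 0 true 0] [.f 4 true, .e 0 true 4] none,
  .edge (0, 0) [.e 0 true 0, .l 4] [.l 4, .f 3 true, .e 0 true 0, .l 4] 0, .defn 2, .tie (1, 6)
  [.e 2 true 0] [.f 6 true, .f 7 true, .e 2 true 1] none, .tie (1, 6) [.e 2 true 0] [.f 6 true, .e
  2 true 2] none, .edge (1, 6) [.e 2 true 0, .l 4] [.l 4, .f 6 true, .f 9 true, .e 2 true 0, .l 4]
  0, .defn 3, .tie (2, 6) [.e 4 true 0] [.f 11 true, .f 12 true, .e 4 true 1] none, .tie (2, 6)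
  [.e 4 true 0] [.f 11 true, .e 4 true 2] none, .defn 4, .tie (2, 20) [.e 5 true 0] [.f 11 true,
  .e 5 true 2] none, .edge (2, 6) [.e 4 true 0, .l 4] [.l 4, .f 11 true, .f 12 true, .e 5 true 1,
  .l 4] 0, .edge (2, 20) [.e 5 true 0, .l 4] [.l 4, .f 11 true, .f 12 true, .e 5 true 0, .l 4] 0,
  .defn 5, .tie (2, 28) [.e 8 true 0] [.f 11 true, .f 12 true, .e 8 true 1] none, .defn 6, .edge
  (2, 28) [.e 8 true 0, .l 4] [.l 4, .e 9 true 0, .l 4] 0, .edge (2, 88) [.f 11 true, .f 12 true,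
  .e 9 true 1, .l 4] [.l 4, .e 9 true 1, .l 4] 0, .defn 7, .tie (3, 6) [.e 12 true 0] [.f 14 true,
  .f 15 true, .e 12 true 1] none, .tie (3, 6) [.e 12 true 0] [.f 14 true, .e 12 true 2] none,
  .defn 8, .tie (3, 20) [.e 13 true 0] [.f 14 true, .e 13 true 2] none, .edge (3, 6) [.e 12 true
  0, .l 4] [.l 4, .f 14 true, .f 15 true, .e 13 true 1, .l 4] 0, .edge (3, 20) [.e 13 true 0, .l
  4] [.l 4, .f 14 true, .f 15 true, .e 13 true 0, .l 4] 0, .edge (1, 0) [.e 0 false 0, .l 1, .f 0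
  true, .e 0 true 0, .l 1, .l 6, .l 2, .f 7 true, .e 2 true 0, .l 1, .l 6, .l 2, .l 1, .f 11 true,
  .e 4 true 0, .l 1, .l 3, .l 2, .l 6, .f 15 true, .e 13 true 1, .l 1, .l 6, .l 2] [.l 2, .f 7
  true, .e 0 false 0, .l 1, .l 6, .l 2, .l 3, .l 1, .f 5 true, .f 2 true, .f 1 true, .e 0 true 0,
  .l 1, .l 2, .l 6, .l 1, .f 7 true, .e 2 true 0, .l 2, .l 6, .l 1, .f 11 true, .e 4 true 0, .l 6,
  .l 2, .l 3, .l 1, .f 14 true, .e 12 true 10, .l 1, .l 2, .l 6, .l 1] 1, .defn 9, .tie (3, 28)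
  [.e 17 true 0] [.f 14 true, .f 15 true, .e 17 true 1] none, .edge (1, 6) [.e 2 true 0, .l 1, .f
  11 true, .f 12 true, .e 2 false 0, .l 1, .l 6, .l 2, .f 6 true, .e 0 false 0, .l 1, .l 6, .l 2,
  .l 1, .f 5 true, .f 1 true, .e 0 true 0, .l 1, .l 3, .l 2, .l 6, .f 9 true, .e 2 true 0, .l 1,
  .l 6, .l 2, .f 12 true, .e 4 true 0, .l 1, .l 6, .l 2, .l 1, .f 14 true, .e 12 true 0, .l 1, .l
  3, .l 2, .l 6] [.l 2, .f 6 true, .e 2 true 0, .l 1, .l 6, .l 2, .l 3, .l 1, .f 12 true, .e 4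
  true 10, .l 1, .l 2, .l 6, .l 1, .f 14 true, .e 17 true 2, .l 2, .l 6, .l 1] 1, .edge (7, 20)
  [.f 23 true, .e 18 true 1, .l 4] [.l 4, .f 22 true, .e 18 true 1, .l 4] 0]

/-- deductions -/
def items1 : List Item :=
  [.defn 10, .edge (3, 28) [.e 17 true 0, .l 4] [.l 4, .e 20 true 0, .l 4] 0, .edge (3, 88) [.f 14
  true, .f 15 true, .e 20 true 1, .l 4] [.l 4, .e 20 true 1, .l 4] 0, .defn 11, .tie (4, 11) [.e
  23 true 1] [.f 16 true, .e 23 true 2] none, .defn 12, .edge (4, 6) [.e 23 true 0, .l 4] [.l 4,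
  .f 16 true, .e 24 true 5, .l 4] 0, .edge (4, 20) [.e 24 true 0, .l 4] [.l 4, .f 16 true, .e 24
  true 2, .l 4] 0, .defn 13, .defn 14, .edge (4, 28) [.e 27 true 0, .l 4] [.l 4, .e 28 true 0, .l
  4] 0, .defn 15, .edge (4, 48) [.e 27 true 1, .l 4] [.l 4, .e 30 true 1, .l 4] 0, .edge (4, 88)
  [.e 30 true 0, .l 4] [.l 4, .e 28 true 1, .l 4] 0, .defn 16, .tie (5, 6) [.e 33 true 0] [.f 19
  true, .e 33 true 2] none, .edge (0, 0) [.e 0 true 0, .l 1, .f 6 true, .f 7 true, .e 0 false 0,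
  .l 1, .l 6, .l 2, .f 1 true, .f 5 true, .e 0 true 0, .l 1, .l 6, .l 2, .l 1, .f 6 true, .e 2
  true 0, .l 1, .l 3, .l 2, .l 6, .f 12 true, .e 5 true 1, .l 1, .l 6, .l 2, .e 23 true 1, .l 1,
  .l 6, .l 2, .l 1] [.l 2, .f 1 true, .e 0 true 0, .l 1, .l 6, .l 2, .l 3, .l 1, .f 7 true, .e 2
  true 10, .l 1, .l 2, .l 6, .l 1, .f 11 true, .e 8 true 2, .l 2, .l 6, .l 1, .e 33 true 1, .l 6,
  .l 2, .l 3, .l 1] 1, .defn 17, .tie (5, 20) [.e 35 true 0] [.f 19 true, .e 35 true 2] none,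
  .edge (5, 11) [.e 33 true 1, .l 4] [.l 4, .e 35 true 1, .l 4] 0, .defn 18, .defn 19, .tie (5,
  31) [.e 38 true 0] [.f 19 true, .e 38 true 2] none, .edge (5, 6) [.e 33 true 0, .l 4] [.l 4, .e
  38 true 0, .l 4] 0, .edge (5, 20) [.e 35 true 0, .l 4] [.l 4, .e 38 true 1, .l 4] 0, .edge (1,
  4) [.e 1 true 0, .l 1, .e 1 true 1, .l 1, .l 6, .l 2, .f 6 true, .f 7 true, .e 2 true 3, .l 1,
  .l 6, .l 2, .l 1, .f 12 true, .e 8 true 0, .l 1, .l 3, .l 2, .l 6, .f 19 true, .e 38 true 0, .l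
  1, .l 6, .l 2] [.l 2, .f 7 true, .e 1 true 0, .l 1, .l 6, .l 2, .l 3, .l 1, .f 7 true, .e 2 true
  3, .l 1, .l 2, .l 6, .l 1, .f 11 true, .e 8 true 0, .l 2, .l 6, .l 1, .f 19 true, .e 33 true 0,
  .l 6, .l 2, .l 3, .l 1, .f 39 true, .e 34 false 3, .l 1, .l 2, .l 6, .l 1] 1, .defn 20, .edge
  (5, 28) [.e 37 true 0, .l 4] [.l 4, .e 42 true 0, .l 4] 0, .defn 21, .edge (5, 48) [.e 37 true
  1, .l 4] [.l 4, .e 44 true 1, .l 4] 0, .edge (5, 88) [.e 44 true 0, .l 4] [.l 4, .e 42 true 1,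
  .l 4] 0, .defn 22, .defn 23, .edge (6, 11) [.e 47 true 1, .l 4] [.l 4, .e 48 true 1, .l 4] 0,
  .defn 24, .defn 25, .edge (6, 6) [.e 47 true 0, .l 4] [.l 4, .e 51 true 0, .l 4] 0, .edge (6,
  20) [.e 48 true 0, .l 4] [.l 4, .e 51 true 1, .l 4] 0, .defn 26, .defn 27]

/-- deductions -/
def items2 : List Item :=
  [.edge (6, 28) [.e 50 true 0, .l 4] [.l 4, .e 55 true 0, .l 4] 0, .defn 28, .edge (6, 48) [.e 50
  true 1, .l 4] [.l 4, .e 57 true 1, .l 4] 0, .edge (6, 88) [.e 57 true 0, .l 4] [.l 4, .e 55 true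
  1, .l 4] 0, .defn 29, .edge (6, 62) [.e 54 true 0, .l 4] [.l 4, .e 60 true 0, .l 4] 0, .defn 30,
  .edge (6, 109) [.e 54 true 1, .l 4] [.l 4, .e 62 true 1, .l 4] 0, .edge (6, 152) [.e 62 true 0,
  .l 4] [.l 4, .e 60 true 1, .l 4] 0, .defn 31, .tie (7, 6) [.e 65 true 0] [.f 22 true, .f 23
  true, .e 65 true 1] none, .tie (7, 6) [.e 65 true 0] [.f 22 true, .e 65 true 2] none, .edge (7,
  6) [.e 65 true 0, .l 4] [.l 4, .f 22 true, .e 18 true 0, .l 4] 0, .edge (1, 21) [.e 1 true 1, .l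
  1, .f 7 true, .e 1 true 0, .l 1, .l 6, .l 2, .f 6 true, .e 2 true 10, .l 1, .l 6, .l 2, .l 1, .f
  12 true, .e 8 true 2, .l 1, .l 3, .l 2, .l 6, .e 35 true 1, .l 1, .l 6, .l 2] [.l 2, .f 7 true,
  .e 1 true 1, .l 1, .l 6, .l 2, .l 3, .l 1, .e 2 true 0, .l 1, .l 2, .l 6, .l 1, .f 12 true, .e 4
  true 0, .l 2, .l 6, .l 1, .f 14 true, .e 12 true 0, .l 6, .l 2, .l 3, .l 1, .f 22 true, .e 65
  true 10, .l 1, .l 2, .l 6, .l 1] 1, .defn 32, .edge (7, 28) [.f 22 true, .e 16 false 2, .l 4]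
  [.l 4, .e 68 true 0, .l 4] 0, .edge (7, 88) [.f 22 true, .f 23 true, .e 68 true 1, .l 4] [.l 4,
  .e 68 true 1, .l 4] 0, .defn 33, .defn 34, .edge (8, 28) [.e 71 true 0, .l 4] [.l 4, .e 72 true
  0, .l 4] 0, .defn 35, .edge (8, 48) [.e 71 true 1, .l 4] [.l 4, .e 74 true 1, .l 4] 0, .edge (8,
  88) [.e 74 true 0, .l 4] [.l 4, .e 72 true 1, .l 4] 0, .edge (3, 5) [.e 4 false 4, .l 1, .f 11
  true, .e 4 true 3, .l 1, .l 6, .l 2, .f 14 true, .e 17 true 0, .l 1, .l 6, .l 2, .l 1, .f 28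
  true, .e 18 false 1, .l 1, .l 3, .l 2, .l 6, .f 23 true, .e 14 true 6, .l 1, .l 6, .l 2, .f 24
  true, .e 74 true 17, .l 1, .l 6, .l 2, .l 1] [.l 2, .e 4 false 13, .l 1, .l 6, .l 2, .l 3, .l 1,
  .f 12 true, .e 3 true 10, .l 1, .l 2, .l 6, .l 1, .f 12 true, .e 9 true 11, .l 2, .l 6, .l 1, .e
  54 true 5, .l 6, .l 2, .l 3, .l 1] 1, .tie (6, 76) [.e 10 false 7, .l 1, .e 10 true 6, .l 1, .l
  6, .l 2, .e 55 true 10, .l 1, .l 6, .l 2, .l 1] [.l 2, .e 10 false 20, .l 1, .l 6, .l 2, .l 3,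
  .l 1, .e 35 true 1, .l 1, .l 2, .l 6, .l 1, .e 67 true 0, .l 2, .l 6, .l 1, .f 60 true, .e 65
  false 4, .l 6, .l 2, .l 3, .l 1, .e 14 true 10, .l 1, .l 2, .l 6, .l 1, .e 74 true 18, .l 2, .l
  6, .l 1, .e 77 true 1, .l 6, .l 2, .l 3, .l 1, .e 63 true 10] (some 1), .tie (30, 0) [] [.f 69
  false] none, .defn 36, .defn 37, .edge (9, 28) [.e 78 true 0, .l 4] [.l 4, .e 79 true 0, .l 4]
  0, .defn 38, .edge (9, 48) [.e 78 true 1, .l 4] [.l 4, .e 81 true 1, .l 4] 0, .edge (9, 88) [.e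
  81 true 0, .l 4] [.l 4, .e 79 true 1, .l 4] 0, .defn 39, .defn 40, .edge (10, 11) [.e 84 true 1,
  .l 4] [.l 4, .e 85 true 1, .l 4] 0, .defn 41, .defn 42, .edge (10, 6) [.e 84 true 0, .l 4] [.l
  4, .e 88 true 0, .l 4] 0, .edge (10, 20) [.e 85 true 0, .l 4] [.l 4, .e 88 true 1, .l 4] 0,
  .defn 43]

/-- deductions -/
def items3 : List Item :=
  [.defn 44, .edge (10, 28) [.e 87 true 0, .l 4] [.l 4, .e 92 true 0, .l 4] 0, .defn 45, .edge
  (10, 48) [.e 87 true 1, .l 4] [.l 4, .e 94 true 1, .l 4] 0, .edge (10, 88) [.e 94 true 0, .l 4]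
  [.l 4, .e 92 true 1, .l 4] 0, .defn 46, .edge (10, 62) [.e 91 true 0, .l 4] [.l 4, .e 97 true 0,
  .l 4] 0, .edge (6, 53) [.e 9 false 22, .l 1, .e 9 true 21, .l 1, .l 6, .l 2, .e 60 true 1, .l 1,
  .l 6, .l 2, .l 1] [.l 2, .e 9 false 32, .l 1, .l 6, .l 2, .l 3, .l 1, .f 11 true, .f 12 true, .e
  4 true 4, .l 1, .l 2, .l 6, .l 1, .f 14 true, .f 15 true, .e 13 true 0, .l 2, .l 6, .l 1, .f 24
  true, .e 16 true 0, .l 6, .l 2, .l 3, .l 1, .f 22 true, .e 12 false 12, .l 1, .l 2, .l 6, .l 1,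
  .f 15 true, .e 20 true 25, .l 2, .l 6, .l 1, .e 97 true 1, .l 6, .l 2, .l 3, .l 1] 1, .tie (6,
  139) [.e 60 true 0, .l 1, .e 60 false 1, .l 1, .l 6, .l 2, .e 9 false 29, .l 1, .l 6, .l 2, .l
  1, .e 4 true 14, .l 1, .l 3, .l 2, .l 6, .f 14 true, .f 15 true, .e 17 true 0, .l 1, .l 6, .l 2,
  .f 28 true, .e 18 false 0, .l 1, .l 6, .l 2, .l 1, .f 22 true, .f 23 true, .e 12 false 3, .l 1,
  .l 3, .l 2, .l 6, .f 15 true, .e 20 true 21, .l 1, .l 6, .l 2, .e 97 true 1, .l 1, .l 6, .l 2,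
  .l 1, .e 99 false 6, .l 1, .l 3, .l 2, .l 6, .l 1] [.l 2, .e 60 true 2] (some 1), .tie (29, 49)
  [.e 99 true 6] [.f 82 true, .e 99 true 9] none, .edge (3, 32) [.e 12 true 4, .l 1, .f 23 true,
  .e 12 false 3, .l 1, .l 6, .l 2, .f 14 true, .e 17 true 4, .l 1, .l 6, .l 2, .l 1, .f 28 true,
  .e 19 true 0, .l 1, .l 3, .l 2, .l 6, .e 21 true 10, .l 1, .l 6, .l 2, .e 97 true 11, .l 1, .l
  6, .l 2, .l 1, .f 83 true, .f 83 true, .e 98 false 13, .l 1, .l 3, .l 2, .l 6] [.l 2, .e 12 true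
  13, .l 1, .l 6, .l 2, .l 3, .l 1, .e 18 true 10, .l 1, .l 2, .l 6, .l 1, .f 28 true, .e 78 true
  20, .l 2, .l 6, .l 1] 1, .tie (6, 306) [.e 55 true 27, .l 1, .e 55 false 24, .l 1, .l 6, .l 2,
  .e 60 true 27, .l 1, .l 6, .l 2, .l 1, .f 82 true, .f 82 true, .e 60 false 31, .l 1, .l 3, .l 2,
  .l 6, .e 55 true 34, .l 1, .l 6, .l 2, .f 70 false, .e 64 true 26, .l 1, .l 6, .l 2, .l 1, .f 82
  true, .f 82 true, .e 64 false 32, .l 1, .l 3, .l 2, .l 6, .f 70 true, .e 55 false 33, .l 1, .l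
  6, .l 2, .e 60 true 33, .l 1, .l 6, .l 2, .l 1, .f 82 true, .f 82 true, .e 60 false 25, .l 1, .l
  3, .l 2, .l 6, .l 1, .e 55 true 24, .l 2] [] (some 1), .tie (27, 0) [] [.f 85 true] none, .tie
  (6, 167) [.e 55 true 17] [.f 86 false, .e 55 false 0] none, .tie (6, 6) [.f 86 false, .f 87
  true, .e 10 false 10] [.e 47 true 0] none, .tie (22, 0) [] [.f 88 false] none, .tie (6, 20) [.f
  86 false, .f 87 true, .e 11 true 15] [.e 48 true 0] none, .tie (23, 0) [] [.f 90 false] none,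
  .tie (6, 92) [.e 50 true 4] [.f 86 false, .f 87 true, .e 50 true 6] none, .tie (6, 8) [.e 9
  false 6] [.f 86 false, .f 87 true, .e 51 true 0] none, .tie (25, 0) [] [.f 93 false] none, .tie
  (6, 88) [.f 86 false, .e 56 false 10] [.e 57 true 0] none, .tie (28, 0) [] [.f 95 false] none,
  .tie (6, 225) [.e 60 true 1] [.f 86 false, .f 87 true, .e 60 true 4] none, .tie (6, 152) [.f 86
  false, .f 87 true, .e 54 true 21] [.e 62 true 0] none, .tie (26, 0) [] [.f 98 true, .f 70 true,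
  .f 86 true] none, .tie (6, 248) [.e 60 true 5] [.f 99 false, .e 61 true 0] none, .tie (6, 35)
  [.e 9 false 16] [.f 99 false, .e 77 false 0] none, .tie (35, 0) [] [.f 101 false] none, .tie (2,
  4) [.e 3 true 0] [.f 102 false, .e 74 false 0] none, .tie (8, 0) [] [.f 103 false] none, .tie
  (2, 0) [.e 2 false 0] [.f 11 true, .f 104 false, .f 24 true, .f 104 true, .f 11 true, .f 12
  true, .f 104 false, .f 24 true, .f 104 true, .f 11 true, .e 3 true 0] none, .tie (2, 0) [] [.f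
  105 false] none, .tie (1, 0) [.e 0 false 0] [.f 6 true, .f 9 true, .f 106 false, .e 4 true 0]
  none, .tie (3, 0) [] [.f 107 false] none, .tie (1, 21) [.e 1 true 1] [.f 7 true, .f 9 true, .f
  106 false, .e 5 true 0] none, .tie (4, 0) [] [.f 109 false] none, .tie (1, 32) [.e 2 true 4] [.f
  6 true, .f 8 true, .f 9 true, .f 106 false, .e 8 true 0] none, .tie (5, 0) [] [.f 111 false, .f
  106 true] none, .tie (1, 84) [.e 2 true 14] [.f 6 true, .f 8 true, .f 7 true, .f 106 false, .e 9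
  true 0] none]

/-- deductions -/
def items4 : List Item :=
  [.tie (6, 0) [] [.f 113 false, .f 106 true] none, .tie (0, 0) [.e 0 true 0] [.f 5 true, .f 108
  false, .e 12 true 0] none, .tie (7, 0) [] [.f 115 false] none, .tie (0, 0) [.e 0 true 0] [.f 5
  true, .f 4 true, .f 108 false, .e 17 true 0] none, .tie (9, 0) [] [.f 117 false] none, .tie (0,
  0) [.e 0 true 0] [.f 3 true, .f 5 true, .f 4 true, .f 108 false, .e 20 true 0] none, .tie (10,
  0) [] [.f 119 false] none, .tie (1, 30) [.e 2 true 3] [.f 6 true, .f 110 false, .e 23 true 0]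
  none, .tie (11, 0) [] [.f 121 false, .f 106 true] none, .tie (1, 24) [.f 6 true, .f 7 true, .e 2
  true 10] [.f 9 true, .f 110 false, .e 24 true 0] none, .tie (12, 0) [] [.f 123 false, .f 106
  true] none, .tie (1, 30) [.e 2 true 3] [.f 9 true, .f 8 true, .f 110 false, .e 27 true 0] none,
  .tie (13, 0) [] [.f 125 false, .f 106 true] none, .tie (1, 24) [.f 6 true, .f 7 true, .e 2 true
  10] [.f 6 true, .f 8 true, .f 9 true, .f 7 true, .f 110 false, .e 28 true 0] none, .tie (14, 0)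
  [] [.f 127 false, .f 106 true] none, .tie (1, 24) [.f 6 true, .f 7 true, .e 2 true 10] [.f 6
  true, .f 8 true, .f 110 false, .e 30 true 0] none, .tie (15, 0) [] [.f 129 false, .f 106 true]
  none, .tie (1, 4) [.e 1 true 0] [.f 6 true, .f 7 true, .f 9 true, .f 112 false, .e 33 true 0]
  none, .tie (16, 0) [] [.f 131 false] none, .tie (1, 4) [.e 1 true 0] [.f 9 true, .f 112 false,
  .e 35 true 0] none, .tie (17, 0) [] [.f 133 false] none, .tie (1, 96) [.e 2 true 12] [.f 6 true,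
  .f 8 true, .f 112 false, .e 37 true 0] none, .tie (18, 0) [] [.f 135 false, .f 106 true] none,
  .tie (1, 0) [.e 0 false 0] [.f 6 true, .f 7 true, .f 9 true, .f 112 false, .e 38 true 0] none,
  .tie (19, 0) [] [.f 137 false] none, .tie (1, 96) [.e 2 true 12] [.f 7 true, .f 8 true, .f 9
  true, .f 7 true, .f 112 false, .e 42 true 0] none, .tie (20, 0) [] [.f 139 false, .f 106 true]
  none, .tie (1, 32) [.e 2 true 4] [.f 6 true, .f 7 true, .f 9 true, .f 8 true, .f 112 false, .e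
  44 true 0] none, .tie (21, 0) [] [.f 141 false, .f 106 true] none, .tie (1, 207) [.e 2 true 25]
  [.f 6 true, .f 8 true, .f 114 false, .e 50 true 0] none, .tie (24, 0) [] [.f 143 false, .f 106
  true] none, .tie (1, 0) [.e 0 false 0] [.f 6 true, .f 9 true, .f 114 false, .e 60 true 0] none,
  .tie (29, 0) [] [.f 145 false] none, .tie (1, 6) [.e 2 true 0] [.f 116 false, .e 65 true 0]
  none, .tie (31, 0) [] [.f 147 false, .f 106 true] none, .tie (1, 6) [.e 2 true 0] [.f 9 true, .f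
  8 true, .f 7 true, .f 116 false, .e 68 true 0] none, .tie (32, 0) [] [.f 149 false, .f 106 true]
  none, .tie (1, 6) [.e 2 true 0] [.f 6 true, .f 7 true, .f 9 true, .f 7 true, .f 106 false, .f
  104 false, .e 71 true 0] none, .tie (33, 0) [] [.f 151 false, .f 106 true] none, .tie (1, 6) [.e
  2 true 0] [.f 7 true, .f 9 true, .f 106 false, .f 104 false, .e 72 true 0] none]

/-- deductions -/
def items5 : List Item :=
  [.tie (34, 0) [] [.f 153 false, .f 106 true] none, .tie (1, 6) [.e 2 true 0] [.f 6 true, .f 8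
  true, .f 7 true, .f 118 false, .e 78 true 0] none, .tie (36, 0) [] [.f 155 false, .f 106 true]
  none, .tie (1, 6) [.e 2 true 0] [.f 9 true, .f 8 true, .f 7 true, .f 118 false, .e 79 true 0]
  none, .tie (37, 0) [] [.f 157 false, .f 106 true] none, .tie (1, 6) [.e 2 true 0] [.f 7 true, .f
  8 true, .f 9 true, .f 118 false, .e 81 true 0] none, .tie (38, 0) [] [.f 159 false, .f 106 true]
  none, .tie (1, 6) [.e 2 true 0] [.f 120 false, .e 84 true 0] none, .tie (39, 0) [] [.f 161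
  false, .f 106 true] none, .tie (1, 6) [.e 2 true 0] [.f 6 true, .f 7 true, .f 9 true, .f 7 true,
  .f 120 false, .e 85 true 0] none, .tie (40, 0) [] [.f 163 false, .f 106 true] none, .tie (1, 6)
  [.e 2 true 0] [.f 6 true, .f 8 true, .f 7 true, .f 120 false, .e 87 true 0] none, .tie (41, 0)
  [] [.f 165 false, .f 106 true] none, .tie (1, 6) [.e 2 true 0] [.f 6 true, .f 9 true, .f 120
  false, .e 88 true 0] none, .tie (42, 0) [] [.f 167 false, .f 106 true] none, .tie (1, 6) [.e 2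
  true 0] [.f 6 true, .f 8 true, .f 120 false, .e 91 true 0] none, .tie (43, 0) [] [.f 169 false,
  .f 106 true] none, .tie (1, 6) [.e 2 true 0] [.f 9 true, .f 8 true, .f 7 true, .f 120 false, .e
  92 true 0] none, .tie (44, 0) [] [.f 171 false, .f 106 true] none, .tie (1, 6) [.e 2 true 0] [.f
  7 true, .f 8 true, .f 9 true, .f 120 false, .e 94 true 0] none, .tie (45, 0) [] [.f 173 false,
  .f 106 true] none, .tie (1, 6) [.e 2 true 0] [.f 9 true, .f 8 true, .f 120 false, .e 97 true 0]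
  none, .tie (46, 0) [] [.f 175 false, .f 106 true] none]

/-- the closing paths -/
def rows0 : List (List (List Step × Nat)) :=
  [[([.l 1, .f 0 true], 0), ([.l 2, .f 1 true], 0), ([.l 3, .f 2 true], 0), ([.l 4, .f 3 true],
  0), ([.l 5, .f 4 true], 0), ([.l 6, .f 5 true], 0), ([.e 0 true 0], 1)], [([.l 1, .f 6 true, .f
  7 true], 1), ([.l 2, .f 7 true], 1), ([.l 3, .f 6 true, .f 7 true, .f 9 true, .f 7 true], 1),
  ([.l 4], 2), ([.l 5, .f 6 true, .f 8 true, .f 7 true], 1), ([.l 6], 3), ([.e 0 false 0], 0)],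
  [([.l 1], 4), ([.l 2, .f 7 true], 2), ([.l 3, .f 9 true, .f 7 true], 4), ([.l 4], 1), ([.l 5, .f
  6 true, .f 7 true, .f 9 true, .f 8 true, .f 7 true], 2), ([.l 6], 5), ([.e 1 true 0], 2)], [([.l
  1, .f 6 true, .f 7 true], 3), ([.l 2, .f 6 true], 3), ([.l 3], 6), ([.l 4, .f 6 true, .f 9
  true], 3), ([.l 5], 7), ([.l 6], 1), ([.e 2 true 0, .f 106 true, .f 6 true, .f 9 true], 3)],
  [([.l 1], 2), ([.l 2, .f 7 true], 4), ([.l 3, .f 7 true, .f 9 true], 2), ([.l 4, .f 6 true, .f 7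
  true], 4), ([.l 5, .f 6 true, .f 7 true, .f 9 true, .f 8 true, .f 7 true], 4), ([.l 6, .f 6
  true, .f 7 true], 6), ([.e 1 true 1, .f 7 true], 4)], [([.l 1, .f 6 true, .f 7 true], 6), ([.l
  2, .f 6 true], 6), ([.l 3, .f 6 true, .f 7 true], 5), ([.l 4, .f 6 true, .f 7 true, .f 9 true,
  .f 7 true], 6), ([.l 5], 8), ([.l 6], 2), ([.f 6 true, .f 7 true, .e 2 true 10, .f 106 true, .f
  9 true], 7)], [([.l 1, .f 6 true, .f 7 true], 5), ([.l 2, .f 6 true], 5), ([.l 3], 3), ([.l 4,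
  .f 6 true, .f 7 true, .f 9 true, .f 7 true], 5), ([.l 5], 9), ([.l 6, .f 6 true, .f 7 true], 4),
  ([.e 2 true 3, .f 106 true, .f 6 true, .f 9 true, .f 7 true], 10)], [([.l 1, .f 6 true, .f 7
  true], 7), ([.l 2], 10), ([.l 3], 8), ([.l 4, .f 9 true, .f 7 true], 8), ([.l 5], 3), ([.l 6, .f
  6 true, .f 8 true, .f 6 true], 7), ([.e 2 true 4, .f 106 true, .f 6 true, .f 9 true, .f 7 true],
  5)], [([.l 1, .f 6 true, .f 7 true], 9), ([.l 2], 11), ([.l 3], 7), ([.l 4, .f 7 true, .f 9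
  true], 7), ([.l 5], 5), ([.l 6, .f 7 true, .f 8 true, .f 9 true], 9), ([.e 2 true 14, .f 106
  true, .f 6 true, .f 9 true], 11)], [([.l 1, .f 6 true, .f 7 true], 8), ([.l 2], 12), ([.l 3, .f
  6 true, .f 7 true], 9), ([.l 4, .f 6 true, .f 7 true, .f 9 true, .f 7 true], 9), ([.l 5], 6),
  ([.l 6, .f 9 true, .f 8 true, .f 7 true], 8), ([.e 2 true 12, .f 106 true, .f 9 true], 9)],
  [([.l 1, .f 6 true, .f 7 true], 10), ([.l 2], 7), ([.l 3], 12), ([.l 4, .f 9 true, .f 7 true],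
  11), ([.l 5, .f 6 true], 10), ([.l 6, .f 6 true, .f 8 true, .f 7 true], 10), ([.e 2 true 13, .f
  106 true, .f 9 true, .f 7 true], 6)], [([.l 1, .f 6 true, .f 7 true], 12), ([.l 2], 8), ([.l 3,
  .f 6 true, .f 7 true], 11), ([.l 4, .f 7 true, .f 9 true], 10), ([.l 5, .f 6 true], 12), ([.l 6,
  .f 6 true, .f 7 true, .f 9 true, .f 8 true, .f 7 true], 11), ([.e 2 true 26, .f 106 true, .f 6
  true, .f 9 true], 8)], [([.l 1, .f 6 true, .f 7 true], 11), ([.l 2], 9), ([.l 3], 10), ([.l 4,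
  .f 6 true, .f 7 true, .f 9 true, .f 7 true], 12), ([.l 5, .f 6 true], 11), ([.l 6, .f 6 true, .f
  8 true, .f 9 true], 12), ([.e 2 true 25, .f 106 true, .f 9 true], 12)]]

/-- the certificate -/
def cert : Table where
  defs :=
    [(0, 0), (1, 6), (2, 6), (2, 20), (2, 28), (2, 72), (3, 6), (3, 20), (3, 28), (3, 72), (4, 6),
    (4, 20), (4, 28), (4, 72), (4, 88), (5, 6), (5, 20), (5, 28), (5, 31), (5, 72), (5, 88), (6,
    6), (6, 20), (6, 28), (6, 31), (6, 62), (6, 72), (6, 88), (6, 139), (6, 152), (7, 6), (7, 72),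
    (8, 28), (8, 72), (8, 88), (9, 28), (9, 72), (9, 88), (10, 6), (10, 20), (10, 28), (10, 31),
    (10, 62), (10, 72), (10, 88), (10, 139)]
  items := items0 ++ items1 ++ items2 ++ items3 ++ items4 ++ items5
  reps :=
    [(0, 0), (1, 0), (1, 4), (1, 6), (1, 21), (1, 24), (1, 30), (1, 32), (1, 84), (1, 96), (1,
    98), (1, 187), (1, 207)]
  rows := rows0

end CfsgLib.ThreeAmalgam.Bound.Thirteen
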