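import Cfsg.Agent.Lib.ThreeAmalgam.Bound.Kinds

/-!
Certificate of one of the enumerations (generated data).
-/

set_option maxRecDepth 100000
set_option maxHeartbeats 1000000

namespace CfsgLib.ThreeAmalgam.Bound.Twelve

/-- deductions -/
def items0 : List Item :=
  [.sub 1, .sub 2, .sub 3, .sub 4, .sub 5, .sub 6, .defn 1, .tie (0, 0) [.e 0 true 0] [.f 0 true,
  .e 0 true 1] none, .tie (0, 0) [.e 0 true 0] [.f 1 true, .e 0 true 2] none, .tie (0, 0) [.e 0
  true 0] [.f 2 true, .e 0 true 3] none, .tie (0, 0) [.e 0 true 0] [.f 4 true, .e 0 true 4] none,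
  .edge (0, 0) [.e 0 true 0, .l 4] [.l 4, .f 3 true, .e 0 true 0, .l 4] 0, .defn 2, .tie (1, 6)
  [.e 2 true 0] [.f 6 true, .f 7 true, .e 2 true 1] none, .tie (1, 6) [.e 2 true 0] [.f 6 true, .e
  2 true 2] none, .edge (1, 6) [.e 2 true 0, .l 4] [.l 4, .f 6 true, .f 9 true, .e 2 true 0, .l 4]
  0, .defn 3, .tie (2, 6) [.e 4 true 0] [.f 11 true, .f 12 true, .e 4 true 1] none, .tie (2, 6)
  [.e 4 true 0] [.f 11 true, .e 4 true 2] none, .defn 4, .tie (2, 20) [.e 5 true 0] [.f 11 true,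
  .e 5 true 2] none, .edge (2, 6) [.e 4 true 0, .l 4] [.l 4, .f 11 true, .f 12 true, .e 5 true 1,
  .l 4] 0, .edge (2, 20) [.e 5 true 0, .l 4] [.l 4, .f 11 true, .f 12 true, .e 5 true 0, .l 4] 0,
  .defn 5, .tie (2, 28) [.e 8 true 0] [.f 11 true, .f 12 true, .e 8 true 1] none, .defn 6, .edge
  (2, 28) [.e 8 true 0, .l 4] [.l 4, .e 9 true 0, .l 4] 0, .edge (2, 88) [.f 11 true, .f 12 true,
  .e 9 true 1, .l 4] [.l 4, .e 9 true 1, .l 4] 0, .defn 7, .tie (3, 6) [.e 12 true 0] [.f 14 true,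
  .f 15 true, .e 12 true 1] none, .tie (3, 6) [.e 12 true 0] [.f 14 true, .e 12 true 2] none,
  .defn 8, .tie (3, 20) [.e 13 true 0] [.f 14 true, .e 13 true 2] none, .edge (3, 6) [.e 12 true
  0, .l 4] [.l 4, .f 14 true, .f 15 true, .e 13 true 1, .l 4] 0, .edge (3, 20) [.e 13 true 0, .l
  4] [.l 4, .f 14 true, .f 15 true, .e 13 true 0, .l 4] 0, .edge (0, 0) [.e 0 true 0, .l 1, .l 6,
  .l 2, .f 7 true, .e 2 true 0, .l 1, .l 6, .l 2, .l 1, .f 11 true, .e 4 true 0, .l 1, .l 3, .l 2,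
  .l 6, .f 15 true, .e 13 true 1, .l 1, .l 6, .l 2] [.l 6, .l 2, .l 3, .l 1, .f 1 true, .f 3 true,
  .f 5 true, .e 0 true 0, .l 1, .l 2, .l 6, .l 1, .f 7 true, .e 2 true 0, .l 2, .l 6, .l 1, .f 11
  true, .e 4 true 0, .l 6, .l 2, .l 3, .l 1, .f 14 true, .e 12 true 10, .l 1, .l 2, .l 6, .l 1] 1,
  .defn 9, .tie (3, 28) [.e 17 true 0] [.f 14 true, .f 15 true, .e 17 true 1] none, .edge (1, 6)
  [.e 2 true 0, .l 1, .l 6, .l 2, .f 12 true, .e 4 true 0, .l 1, .l 6, .l 2, .l 1, .f 14 true, .e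
  12 true 0, .l 1, .l 3, .l 2, .l 6] [.l 6, .l 2, .l 3, .l 1, .f 9 true, .e 0 false 0, .l 1, .l 2,
  .l 6, .l 1, .f 1 true, .f 5 true, .e 0 true 0, .l 2, .l 6, .l 1, .f 6 true, .e 2 true 0, .l 6,
  .l 2, .l 3, .l 1, .f 11 true, .e 4 true 10, .l 1, .l 2, .l 6, .l 1, .f 14 true, .e 17 true 2, .l
  2, .l 6, .l 1] 1, .edge (7, 20) [.f 23 true, .e 18 true 1, .l 4] [.l 4, .f 22 true, .e 18 true
  1, .l 4] 0]

/-- deductions -/
def items1 : List Item :=
  [.defn 10, .edge (3, 28) [.e 17 true 0, .l 4] [.l 4, .e 20 true 0, .l 4] 0, .edge (3, 88) [.f 14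
  true, .f 15 true, .e 20 true 1, .l 4] [.l 4, .e 20 true 1, .l 4] 0, .defn 11, .tie (4, 11) [.e
  23 true 1] [.f 16 true, .e 23 true 2] none, .defn 12, .edge (4, 6) [.e 23 true 0, .l 4] [.l 4,
  .f 16 true, .e 24 true 5, .l 4] 0, .edge (4, 20) [.e 24 true 0, .l 4] [.l 4, .f 16 true, .e 24
  true 2, .l 4] 0, .defn 13, .defn 14, .edge (4, 28) [.e 27 true 0, .l 4] [.l 4, .e 28 true 0, .l
  4] 0, .defn 15, .edge (4, 48) [.e 27 true 1, .l 4] [.l 4, .e 30 true 1, .l 4] 0, .edge (4, 88)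
  [.e 30 true 0, .l 4] [.l 4, .e 28 true 1, .l 4] 0, .defn 16, .tie (5, 6) [.e 33 true 0] [.f 19
  true, .e 33 true 2] none, .edge (1, 0) [.e 0 false 0, .l 1, .l 6, .l 2, .f 1 true, .f 5 true, .e
  0 true 0, .l 1, .l 6, .l 2, .l 1, .f 6 true, .e 2 true 0, .l 1, .l 3, .l 2, .l 6, .f 12 true, .e
  5 true 1, .l 1, .l 6, .l 2, .e 23 true 1, .l 1, .l 6, .l 2, .l 1] [.l 6, .l 2, .l 3, .l 1, .f 6
  true, .e 2 true 10, .l 1, .l 2, .l 6, .l 1, .f 11 true, .e 8 true 2, .l 2, .l 6, .l 1, .e 33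
  true 1, .l 6, .l 2, .l 3, .l 1] 1, .defn 17, .tie (5, 20) [.e 35 true 0] [.f 19 true, .e 35 true
  2] none, .edge (5, 11) [.e 33 true 1, .l 4] [.l 4, .e 35 true 1, .l 4] 0, .defn 18, .defn 19,
  .tie (5, 31) [.e 38 true 0] [.f 19 true, .e 38 true 2] none, .edge (5, 6) [.e 33 true 0, .l 4]
  [.l 4, .e 38 true 0, .l 4] 0, .edge (5, 20) [.e 35 true 0, .l 4] [.l 4, .e 38 true 1, .l 4] 0,
  .edge (1, 21) [.e 1 true 1, .l 1, .l 6, .l 2, .f 6 true, .f 7 true, .e 2 true 3, .l 1, .l 6, .l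
  2, .l 1, .f 12 true, .e 8 true 0, .l 1, .l 3, .l 2, .l 6, .f 19 true, .e 38 true 0, .l 1, .l 6,
  .l 2] [.l 6, .l 2, .l 3, .l 1, .f 7 true, .e 2 true 3, .l 1, .l 2, .l 6, .l 1, .f 11 true, .e 8
  true 0, .l 2, .l 6, .l 1, .f 19 true, .e 33 true 0, .l 6, .l 2, .l 3, .l 1, .f 39 true, .e 34
  false 3, .l 1, .l 2, .l 6, .l 1] 1, .defn 20, .edge (5, 28) [.e 37 true 0, .l 4] [.l 4, .e 42
  true 0, .l 4] 0, .defn 21, .edge (5, 48) [.e 37 true 1, .l 4] [.l 4, .e 44 true 1, .l 4] 0,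
  .edge (5, 88) [.e 44 true 0, .l 4] [.l 4, .e 42 true 1, .l 4] 0, .defn 22, .defn 23, .edge (6,
  11) [.e 47 true 1, .l 4] [.l 4, .e 48 true 1, .l 4] 0, .defn 24, .defn 25, .edge (6, 6) [.e 47
  true 0, .l 4] [.l 4, .e 51 true 0, .l 4] 0, .edge (6, 20) [.e 48 true 0, .l 4] [.l 4, .e 51 true
  1, .l 4] 0, .defn 26, .defn 27]

/-- deductions -/
def items2 : List Item :=
  [.edge (6, 28) [.e 50 true 0, .l 4] [.l 4, .e 55 true 0, .l 4] 0, .defn 28, .edge (6, 48) [.e 50
  true 1, .l 4] [.l 4, .e 57 true 1, .l 4] 0, .edge (6, 88) [.e 57 true 0, .l 4] [.l 4, .e 55 true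
  1, .l 4] 0, .defn 29, .edge (6, 62) [.e 54 true 0, .l 4] [.l 4, .e 60 true 0, .l 4] 0, .defn 30,
  .edge (6, 109) [.e 54 true 1, .l 4] [.l 4, .e 62 true 1, .l 4] 0, .edge (6, 152) [.e 62 true 0,
  .l 4] [.l 4, .e 60 true 1, .l 4] 0, .defn 31, .tie (7, 6) [.e 65 true 0] [.f 22 true, .f 23
  true, .e 65 true 1] none, .tie (7, 6) [.e 65 true 0] [.f 22 true, .e 65 true 2] none, .edge (7,
  6) [.e 65 true 0, .l 4] [.l 4, .f 22 true, .e 18 true 0, .l 4] 0, .edge (1, 4) [.e 1 true 0, .l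
  1, .l 6, .l 2, .f 6 true, .e 2 true 10, .l 1, .l 6, .l 2, .l 1, .f 12 true, .e 8 true 2, .l 1,
  .l 3, .l 2, .l 6, .e 35 true 1, .l 1, .l 6, .l 2] [.l 6, .l 2, .l 3, .l 1, .f 7 true, .e 2 true
  0, .l 1, .l 2, .l 6, .l 1, .f 12 true, .e 4 true 0, .l 2, .l 6, .l 1, .f 14 true, .e 12 true 0,
  .l 6, .l 2, .l 3, .l 1, .f 22 true, .e 65 true 10, .l 1, .l 2, .l 6, .l 1] 1, .defn 32, .edge
  (7, 28) [.f 22 true, .e 16 false 2, .l 4] [.l 4, .e 68 true 0, .l 4] 0, .edge (7, 88) [.f 22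
  true, .f 23 true, .e 68 true 1, .l 4] [.l 4, .e 68 true 1, .l 4] 0, .defn 33, .defn 34, .edge
  (8, 28) [.e 71 true 0, .l 4] [.l 4, .e 72 true 0, .l 4] 0, .defn 35, .edge (8, 48) [.e 71 true
  1, .l 4] [.l 4, .e 74 true 1, .l 4] 0, .edge (8, 88) [.e 74 true 0, .l 4] [.l 4, .e 72 true 1,
  .l 4] 0, .edge (2, 24) [.f 11 true, .f 12 true, .e 4 true 10, .l 1, .l 6, .l 2, .f 14 true, .e
  17 true 2, .l 1, .l 6, .l 2, .l 1, .e 18 false 0, .l 1, .l 3, .l 2, .l 6, .e 14 true 10, .l 1,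
  .l 6, .l 2, .e 74 true 18, .l 1, .l 6, .l 2, .l 1] [.l 6, .l 2, .l 3, .l 1, .f 12 true, .e 3
  true 10, .l 1, .l 2, .l 6, .l 1, .f 12 true, .e 9 true 11, .l 2, .l 6, .l 1, .e 54 true 5, .l 6,
  .l 2, .l 3, .l 1] 1, .tie (5, 18) [.f 19 true, .e 10 true 18, .l 1, .l 6, .l 2, .e 55 true 11,
  .l 1, .l 6, .l 2, .l 1] [.l 6, .l 2, .l 3, .l 1, .f 19 true, .e 35 true 1, .l 1, .l 2, .l 6, .l
  1, .e 67 true 0, .l 2, .l 6, .l 1, .f 60 true, .e 65 false 4, .l 6, .l 2, .l 3, .l 1, .e 14 true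
  10, .l 1, .l 2, .l 6, .l 1, .e 74 true 18, .l 2, .l 6, .l 1, .e 77 true 0, .l 6, .l 2, .l 3, .l
  1, .e 63 true 18] (some 1), .tie (30, 0) [] [.f 69 false] none, .defn 36, .defn 37, .edge (9,
  28) [.e 78 true 0, .l 4] [.l 4, .e 79 true 0, .l 4] 0, .defn 38, .edge (9, 48) [.e 78 true 1, .l
  4] [.l 4, .e 81 true 1, .l 4] 0, .edge (9, 88) [.e 81 true 0, .l 4] [.l 4, .e 79 true 1, .l 4]
  0, .defn 39, .defn 40, .edge (10, 11) [.e 84 true 1, .l 4] [.l 4, .e 85 true 1, .l 4] 0, .defn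
  41, .defn 42, .edge (10, 6) [.e 84 true 0, .l 4] [.l 4, .e 88 true 0, .l 4] 0, .edge (10, 20)
  [.e 85 true 0, .l 4] [.l 4, .e 88 true 1, .l 4] 0, .defn 43]

/-- deductions -/
def items3 : List Item :=
  [.defn 44, .edge (10, 28) [.e 87 true 0, .l 4] [.l 4, .e 92 true 0, .l 4] 0, .defn 45, .edge
  (10, 48) [.e 87 true 1, .l 4] [.l 4, .e 94 true 1, .l 4] 0, .edge (10, 88) [.e 94 true 0, .l 4]
  [.l 4, .e 92 true 1, .l 4] 0, .defn 46, .edge (10, 62) [.e 91 true 0, .l 4] [.l 4, .e 97 true 0,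
  .l 4] 0, .edge (2, 185) [.e 9 true 21, .l 1, .l 6, .l 2, .e 60 true 1, .l 1, .l 6, .l 2, .l 1]
  [.l 6, .l 2, .l 3, .l 1, .e 4 true 13, .l 1, .l 2, .l 6, .l 1, .f 15 true, .e 13 true 1, .l 2,
  .l 6, .l 1, .e 16 true 1, .l 6, .l 2, .l 3, .l 1, .f 22 true, .e 12 false 26, .l 1, .l 2, .l 6,
  .l 1, .e 20 true 31, .l 2, .l 6, .l 1, .e 97 true 5, .l 6, .l 2, .l 3, .l 1] 1, .tie (3, 28) [.e
  17 true 0, .l 1, .l 6, .l 2, .f 28 true, .e 18 false 0, .l 1, .l 6, .l 2, .l 1, .f 22 true, .f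
  23 true, .e 12 false 3, .l 1, .l 3, .l 2, .l 6, .f 15 true, .e 20 true 21, .l 1, .l 6, .l 2, .e
  97 true 1, .l 1, .l 6, .l 2, .l 1, .e 99 false 8, .l 1, .l 3, .l 2, .l 6] [.l 6, .l 2, .l 3, .l
  1, .f 14 true, .f 15 true, .e 4 false 26, .l 1, .l 2, .l 6, .l 1, .e 9 true 31, .l 2, .l 6, .l
  1, .e 60 true 5] (some 1), .tie (29, 30) [.e 99 true 3] [.f 82 true, .e 99 true 7] none, .edge
  (22, 26) [.e 47 false 14, .l 1, .l 6, .l 2, .e 55 true 12, .l 1, .l 6, .l 2, .l 1, .f 70 false,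
  .e 64 true 24, .l 1, .l 3, .l 2, .l 6, .f 82 true, .e 60 false 4, .l 1, .l 6, .l 2, .e 11 true
  14, .l 1, .l 6, .l 2, .l 1, .e 60 true 17, .l 1, .l 3, .l 2, .l 6, .f 82 true, .e 60 false 26,
  .l 1, .l 6, .l 2, .e 48 true 35, .l 1, .l 6, .l 2, .l 1] [.l 6, .l 2, .l 3, .l 1] 1, .defn 47,
  .edge (10, 109) [.e 91 true 1, .l 4] [.l 4, .e 101 true 1, .l 4] 0, .edge (10, 152) [.e 101 true
  0, .l 4] [.l 4, .e 97 true 1, .l 4] 0, .defn 48, .edge (11, 6) [.e 34 true 0, .l 4] [.l 4, .f 33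
  true, .e 104 true 1, .l 4] 0, .edge (11, 20) [.e 104 true 0, .l 4] [.l 4, .f 33 true, .e 104
  true 0, .l 4] 0, .edge (1, 24) [.f 6 true, .f 7 true, .e 2 true 10, .l 1, .l 6, .l 2, .f 11
  true, .e 8 true 2, .l 1, .l 6, .l 2, .l 1, .e 33 true 1, .l 1, .l 3, .l 2, .l 6, .e 105 true 10,
  .l 1, .l 6, .l 2] [.l 6, .l 2, .l 3, .l 1, .f 7 true, .f 9 true, .f 7 true, .e 1 true 0, .l 1,
  .l 2, .l 6, .l 1, .f 6 true, .e 2 true 10, .l 2, .l 6, .l 1, .f 12 true, .e 8 true 2, .l 6, .l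
  2, .l 3, .l 1, .f 19 true, .e 33 true 11, .l 1, .l 2, .l 6, .l 1] 1, .defn 49, .tie (11, 28) [.e
  108 true 0] [.f 33 true, .e 108 true 1] none, .edge (2, 6) [.e 4 true 0, .l 1, .l 6, .l 2, .f 15
  true, .e 12 true 0, .l 1, .l 6, .l 2, .l 1, .f 22 true, .e 65 true 0, .l 1, .l 3, .l 2, .l 6]
  [.l 6, .l 2, .l 3, .l 1, .f 12 true, .e 2 false 10, .l 1, .l 2, .l 6, .l 1, .f 8 true, .f 7
  true, .e 2 true 13, .l 2, .l 6, .l 1, .f 12 true, .e 5 true 0, .l 6, .l 2, .l 3, .l 1, .f 16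
  true, .e 23 true 17, .l 1, .l 2, .l 6, .l 1, .e 108 true 2, .l 2, .l 6, .l 1] 1, .edge (31, 20)
  [.f 60 true, .e 109 true 1, .l 4] [.l 4, .f 59 true, .e 109 true 1, .l 4] 0, .defn 50, .edge
  (11, 28) [.e 108 true 0, .l 4] [.l 4, .e 111 true 0, .l 4] 0, .edge (11, 88) [.f 33 true, .e 111
  true 1, .l 4] [.l 4, .e 111 true 1, .l 4] 0, .edge (2, 28) [.e 8 true 0, .l 1, .l 6, .l 2, .f 19
  true, .e 33 true 1, .l 1, .l 6, .l 2, .l 1, .e 34 false 6, .l 1, .l 3, .l 2, .l 6, .e 111 true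
  21, .l 1, .l 6, .l 2] [.l 6, .l 2, .l 3, .l 1, .f 11 true, .f 12 true, .e 2 false 26, .l 1, .l
  2, .l 6, .l 1, .f 6 true, .f 7 true, .f 9 true, .f 8 true, .f 7 true, .e 2 true 26, .l 2, .l 6,
  .l 1, .f 11 true, .f 12 true, .e 9 true 5, .l 6, .l 2, .l 3, .l 1, .e 47 true 11, .l 1, .l 2, .l
  6, .l 1] 1, .defn 51, .edge (11, 62) [.f 33 true, .e 41 false 4, .l 4] [.l 4, .e 115 true 0, .l
  4] 0, .edge (11, 152) [.f 33 true, .e 115 true 1, .l 4] [.l 4, .e 115 true 1, .l 4] 0, .defn 52,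
  .defn 53, .edge (12, 11) [.e 118 true 1, .l 4] [.l 4, .e 119 true 1, .l 4] 0, .defn 54, .edge
  (4, 69) [.e 24 true 17, .l 1, .l 6, .l 2, .e 121 true 2, .l 1, .l 6, .l 2, .l 1] [.l 6, .l 2, .l
  3, .l 1, .e 6 false 0, .l 1, .l 2, .l 6, .l 1, .f 14 true, .e 12 true 10, .l 2, .l 6, .l 1, .f
  22 true, .f 23 true, .e 16 false 0, .l 6, .l 2, .l 3, .l 1, .e 13 false 11, .l 1, .l 2, .l 6, .l
  1, .f 14 true, .e 20 true 20, .l 2, .l 6, .l 1, .e 88 true 1, .l 6, .l 2, .l 3, .l 1] 1, .defn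
  55, .edge (12, 6) [.e 118 true 0, .l 4] [.l 4, .e 123 true 0, .l 4] 0, .edge (12, 20) [.e 119
  true 0, .l 4] [.l 4, .e 123 true 1, .l 4] 0, .defn 56, .defn 57, .edge (12, 28) [.e 121 true 0,
  .l 4] [.l 4, .e 127 true 0, .l 4] 0]

/-- deductions -/
def items4 : List Item :=
  [.defn 58, .edge (12, 48) [.e 121 true 1, .l 4] [.l 4, .e 129 true 1, .l 4] 0, .edge (12, 88)
  [.e 129 true 0, .l 4] [.l 4, .e 127 true 1, .l 4] 0, .defn 59, .edge (12, 62) [.e 126 true 0, .l
  4] [.l 4, .e 132 true 0, .l 4] 0, .defn 60, .edge (12, 109) [.e 126 true 1, .l 4] [.l 4, .e 134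
  true 1, .l 4] 0, .edge (12, 152) [.e 134 true 0, .l 4] [.l 4, .e 132 true 1, .l 4] 0, .defn 61,
  .edge (2, 3) [.e 2 false 3, .l 1, .l 6, .l 2, .f 8 true, .f 7 true, .e 2 true 4, .l 1, .l 6, .l
  2, .l 1, .f 11 true, .f 12 true, .e 5 true 1, .l 1, .l 3, .l 2, .l 6, .f 16 true, .e 24 true 5,
  .l 1, .l 6, .l 2, .e 118 true 2, .l 1, .l 6, .l 2, .l 1] [.l 6, .l 2, .l 3, .l 1, .f 11 true, .e
  5 true 10, .l 1, .l 2, .l 6, .l 1, .f 16 true, .e 27 true 5, .l 2, .l 6, .l 1, .e 137 true 5, .l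
  6, .l 2, .l 3, .l 1] 1, .edge (2, 69) [.f 11 true, .e 5 true 11, .l 1, .l 6, .l 2, .f 16 true,
  .e 27 true 2, .l 1, .l 6, .l 2, .l 1, .e 137 true 1, .l 1, .l 3, .l 2, .l 6] [.l 6, .l 2, .l 3,
  .l 1, .f 11 true, .e 3 true 0, .l 1, .l 2, .l 6, .l 1, .f 11 true, .e 4 true 10, .l 2, .l 6, .l
  1, .f 15 true, .e 17 true 2, .l 6, .l 2, .l 3, .l 1, .e 18 false 10, .l 1, .l 2, .l 6, .l 1, .f
  22 true, .f 23 true, .e 68 true 20, .l 2, .l 6, .l 1] 1, .edge (32, 20) [] [.l 4, .e 139 false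
  0, .l 4, .e 138 false 8, .l 4] 0, .defn 62, .edge (13, 11) [.e 137 true 1, .l 4] [.l 4, .e 141
  true 1, .l 4] 0, .defn 63, .edge (4, 5) [.e 5 false 4, .l 1, .l 6, .l 2, .f 11 true, .f 12 true,
  .e 3 true 3, .l 1, .l 6, .l 2, .l 1, .f 12 true, .e 9 true 10, .l 1, .l 3, .l 2, .l 6, .e 60
  true 2, .l 1, .l 6, .l 2, .e 99 true 0, .l 1, .l 6, .l 2, .l 1, .e 103 false 2, .l 1, .l 3, .l
  2, .l 6] [.l 6, .l 2, .l 3, .l 1, .e 27 true 18, .l 1, .l 2, .l 6, .l 1, .e 143 true 5, .l 2, .l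
  6, .l 1] 1, .edge (4, 131) [.e 27 true 6, .l 1, .l 6, .l 2, .e 143 true 0, .l 1, .l 6, .l 2, .l
  1, .e 144 false 1, .l 1, .l 3, .l 2, .l 6, .e 101 false 6, .l 1, .l 6, .l 2, .e 85 true 9, .l 1,
  .l 6, .l 2, .l 1] [.l 6, .l 2, .l 3, .l 1, .e 7 true 20, .l 1, .l 2, .l 6, .l 1, .e 24 true 3,
  .l 2, .l 6, .l 1, .e 126 true 0, .l 6, .l 2, .l 3, .l 1] 1, .defn 64, .edge (13, 6) [.e 137 true
  0, .l 4] [.l 4, .e 146 true 0, .l 4] 0, .edge (13, 20) [.e 141 true 0, .l 4] [.l 4, .e 146 true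
  1, .l 4] 0, .defn 65, .edge (3, 27) [.e 6 true 21, .l 1, .l 6, .l 2, .e 27 true 10, .l 1, .l 6,
  .l 2, .l 1, .e 149 true 2, .l 1, .l 3, .l 2, .l 6] [.l 6, .l 2, .l 3, .l 1, .f 14 true, .f 15
  true, .e 17 true 2, .l 1, .l 2, .l 6, .l 1, .e 18 false 1, .l 2, .l 6, .l 1, .f 23 true, .e 12
  false 10, .l 6, .l 2, .l 3, .l 1, .f 14 true, .e 17 true 26, .l 1, .l 2, .l 6, .l 1, .e 81 true
  5, .l 2, .l 6, .l 1] 1, .defn 66, .edge (13, 28) [.e 143 true 0, .l 4] [.l 4, .e 151 true 0, .l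
  4] 0, .defn 67, .edge (13, 48) [.e 143 true 1, .l 4] [.l 4, .e 153 true 1, .l 4] 0, .edge (13,
  88) [.e 153 true 0, .l 4] [.l 4, .e 151 true 1, .l 4] 0, .edge (9, 116) [.e 81 true 1, .l 1, .l
  6, .l 2, .e 150 false 2, .l 1, .l 6, .l 2, .l 1, .e 149 false 3, .l 1, .l 3, .l 2, .l 6, .e 153
  true 24, .l 1, .l 6, .l 2] [.l 6, .l 2, .l 3, .l 1, .e 17 false 13, .l 1, .l 2, .l 6, .l 1, .e 6
  true 31, .l 2, .l 6, .l 1, .e 27 true 15, .l 6, .l 2, .l 3, .l 1, .e 149 true 17, .l 1, .l 2, .l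
  6, .l 1] 1, .defn 68, .edge (13, 62) [.e 149 true 0, .l 4] [.l 4, .e 157 true 0, .l 4] 0, .defn
  69, .edge (13, 109) [.e 149 true 1, .l 4] [.l 4, .e 159 true 1, .l 4] 0, .edge (13, 152) [.e 159
  true 0, .l 4] [.l 4, .e 157 true 1, .l 4] 0, .defn 70, .defn 71, .edge (14, 11) [.e 162 true 1,
  .l 4] [.l 4, .e 163 true 1, .l 4] 0, .defn 72, .defn 73, .edge (14, 6) [.e 162 true 0, .l 4] [.l
  4, .e 166 true 0, .l 4] 0, .edge (14, 20) [.e 163 true 0, .l 4] [.l 4, .e 166 true 1, .l 4] 0]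

/-- deductions -/
def items5 : List Item :=
  [.defn 74, .edge (4, 24) [.e 23 true 17, .l 1, .l 6, .l 2, .e 108 true 2, .l 1, .l 6, .l 2, .l
  1, .e 109 false 0, .l 1, .l 3, .l 2, .l 6, .e 66 true 10, .l 1, .l 6, .l 2, .f 28 true, .e 79
  true 20, .l 1, .l 6, .l 2, .l 1] [.l 6, .l 2, .l 3, .l 1, .f 16 true, .e 7 true 10, .l 1, .l 2,
  .l 6, .l 1, .f 16 true, .e 28 true 11, .l 2, .l 6, .l 1, .e 169 true 5, .l 6, .l 2, .l 3, .l 1]
  1, .defn 75, .edge (14, 28) [.e 165 true 0, .l 4] [.l 4, .e 171 true 0, .l 4] 0, .defn 76, .edge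
  (14, 48) [.e 165 true 1, .l 4] [.l 4, .e 173 true 1, .l 4] 0, .edge (14, 88) [.e 173 true 0, .l
  4] [.l 4, .e 171 true 1, .l 4] 0, .defn 77, .edge (14, 62) [.e 169 true 0, .l 4] [.l 4, .e 176
  true 0, .l 4] 0, .defn 78, .edge (14, 109) [.e 169 true 1, .l 4] [.l 4, .e 178 true 1, .l 4] 0,
  .edge (14, 152) [.e 178 true 0, .l 4] [.l 4, .e 176 true 1, .l 4] 0, .defn 79, .defn 80, .edge
  (15, 11) [.e 181 true 1, .l 4] [.l 4, .e 182 true 1, .l 4] 0, .defn 81, .tie (3, 18) [.f 14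
  true, .f 15 true, .e 6 true 10, .l 1, .l 6, .l 2, .e 30 true 18, .l 1, .l 6, .l 2, .l 1, .e 184
  true 2, .l 1, .l 3, .l 2, .l 6] [.l 6, .l 2, .l 3, .l 1, .f 14 true, .e 13 true 1, .l 1, .l 2,
  .l 6, .l 1, .e 16 true 0, .l 2, .l 6, .l 1, .f 23 true, .e 12 false 4, .l 6, .l 2, .l 3, .l 1,
  .e 6 true 10, .l 1, .l 2, .l 6, .l 1, .e 30 true 18, .l 2, .l 6, .l 1, .e 184 true 2] (some 1),
  .edge (15, 28) [.e 184 true 0, .l 4, .f 135 true, .f 135 true, .e 184 false 10, .l 4] [.l 4] 0,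
  .defn 82, .edge (15, 6) [.e 181 true 0, .l 4] [.l 4, .e 186 true 0, .l 4] 0, .edge (15, 20) [.e
  182 true 0, .l 4] [.l 4, .e 186 true 1, .l 4] 0, .defn 83, .defn 84, .edge (15, 48) [.e 184 true
  1, .l 4] [.l 4, .e 190 true 1, .l 4] 0, .tie (81, 31) [.f 135 true, .e 191 true 1] [.f 135 true,
  .f 135 true, .f 135 true, .e 191 true 6] none, .defn 85, .edge (15, 62) [.e 189 true 0, .l 4]
  [.l 4, .e 192 true 0, .l 4] 0, .defn 86, .edge (15, 109) [.e 189 true 1, .l 4] [.l 4, .e 194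
  true 1, .l 4] 0, .edge (15, 152) [.e 194 true 0, .l 4] [.l 4, .e 192 true 1, .l 4] 0, .defn 87,
  .edge (16, 28) [.f 39 true, .e 107 false 2, .l 4] [.l 4, .e 197 true 0, .l 4] 0, .edge (2, 99)
  [.f 11 true, .f 12 true, .e 5 true 14, .l 1, .l 6, .l 2, .e 30 true 0, .l 1, .l 6, .l 2, .l 1,
  .e 181 true 2, .l 1, .l 3, .l 2, .l 6] [.l 6, .l 2, .l 3, .l 1, .e 8 true 13, .l 1, .l 2, .l 6,
  .l 1, .f 19 true, .e 38 true 0, .l 2, .l 6, .l 1, .e 41 true 1, .l 6, .l 2, .l 3, .l 1, .e 34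
  true 22, .l 1, .l 2, .l 6, .l 1, .e 197 true 31, .l 2, .l 6, .l 1] 1, .tie (15, 264) [.e 192
  true 21, .l 1, .l 6, .l 2] [.l 6, .l 2, .l 3, .l 1, .e 181 true 28, .l 1, .l 2, .l 6, .l 1, .e
  199 true 2, .l 2, .l 6, .l 1, .e 197 false 35, .l 6, .l 2, .l 3, .l 1, .e 34 false 30, .l 1, .l
  2, .l 6, .l 1, .e 111 true 21, .l 2, .l 6, .l 1, .e 114 true 1, .l 6, .l 2, .l 3, .l 1, .e 47
  false 33, .l 1, .l 2, .l 6, .l 1, .e 62 true 26] (some 1), .tie (85, 0) [] [.f 146 true, .f 70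
  true] none, .tie (2, 292) [.e 9 true 9, .l 1, .l 6, .l 2, .e 48 true 2, .l 1, .l 6, .l 2, .l 1]
  [.l 6, .l 2, .l 3, .l 1, .f 11 true, .e 9 true 35, .l 1, .l 2, .l 6, .l 1, .e 55 true 2, .l 2,
  .l 6, .l 1, .f 147 false, .e 192 false 21, .l 6, .l 2, .l 3, .l 1, .e 184 true 16, .l 1, .l 2,
  .l 6, .l 1, .f 135 true, .e 184 false 5, .l 2, .l 6, .l 1, .e 30 false 20, .l 6, .l 2, .l 3, .l
  1, .f 16 true, .e 6 false 12] (some 1), .tie (23, 0) [] [.f 148 true] none, .tie (3, 89) [.f 14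
  true, .f 15 true, .e 17 true 10] [.f 15 true, .f 149 false, .e 48 false 0] none, .tie (9, 0) []
  [.f 150 true] none, .tie (6, 6) [.f 151 false, .f 28 true, .f 151 true, .f 151 false, .e 21 true
  12] [.e 47 true 0] none]

/-- deductions -/
def items6 : List Item :=
  [.tie (22, 0) [] [.f 152 false] none, .tie (6, 28) [.f 151 false, .e 19 true 21] [.e 50 true 0]
  none, .tie (24, 0) [] [.f 154 false, .f 151 true] none, .tie (6, 31) [.f 151 false, .e 21 true
  22] [.e 51 true 0] none, .tie (25, 0) [] [.f 156 false] none, .tie (6, 62) [.f 151 false, .f 28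
  true, .f 151 true, .e 10 false 24] [.e 54 true 0] none, .tie (26, 0) [] [.f 158 false] none,
  .tie (6, 72) [.f 151 false, .f 28 true, .f 151 true, .f 151 false, .e 18 false 7] [.e 55 true 0]
  none, .tie (27, 0) [] [.f 160 false] none, .tie (6, 241) [.e 57 true 8] [.f 151 false, .f 28
  true, .f 151 true, .e 57 true 16] none, .tie (6, 116) [.e 57 true 1] [.f 151 false, .f 28 true,
  .f 151 true, .f 155 false, .e 58 true 0] none, .tie (6, 139) [.f 151 false, .f 28 true, .f 151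
  true, .e 11 true 7] [.e 60 true 0] none, .tie (29, 0) [] [.f 164 false] none, .tie (6, 4) [.e 10
  false 0] [.f 151 false, .f 28 true, .f 151 true, .f 165 false, .f 82 true, .f 165 true, .e 10
  false 3] none, .tie (5, 4) [.f 19 true, .f 166 true, .f 19 true, .e 8 false 19] [.e 10 true 0]
  none, .tie (6, 0) [] [.f 167 false] none, .tie (2, 30) [.e 4 true 3] [.f 11 true, .f 168 false,
  .f 151 false, .e 17 false 0] none, .tie (3, 0) [.e 4 false 0] [.f 15 true, .f 169 true, .f 169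
  true, .e 12 true 0] none, .tie (7, 0) [] [.f 170 false] none, .tie (3, 20) [.f 14 true, .f 169
  true, .f 169 true, .e 6 true 1] [.e 13 true 0] none, .tie (8, 0) [] [.f 172 false] none, .tie
  (2, 201) [.e 8 true 13] [.f 11 true, .f 171 false, .e 16 false 0] none, .tie (5, 0) [] [.f 174
  true, .f 173 true] none, .tie (3, 72) [.f 15 true, .f 169 true, .e 6 true 31] [.e 20 true 0]
  none, .tie (10, 0) [] [.f 176 false] none, .tie (4, 6) [.f 175 false, .e 8 false 10] [.e 23 true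
  0] none, .tie (11, 0) [] [.f 178 false] none, .tie (4, 20) [.f 175 false, .f 166 true, .f 175
  true, .f 16 true, .f 175 false, .e 8 false 20] [.e 24 true 0] none, .tie (12, 0) [] [.f 180
  false] none, .tie (4, 28) [.f 16 true, .f 175 false, .f 166 true, .f 175 true, .e 6 false 19]
  [.e 27 true 0] none, .tie (13, 0) [] [.f 182 false] none, .tie (4, 19) [.e 5 false 12] [.f 16
  true, .f 175 false, .f 166 true, .f 175 true, .f 16 true, .e 28 true 0] none, .tie (14, 0) []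
  [.f 184 false] none, .tie (4, 23) [.e 7 true 4] [.f 16 true, .f 175 false, .f 166 true, .f 175
  true, .f 16 true, .e 30 true 0] none, .tie (15, 0) [] [.f 186 false] none, .tie (4, 21) [.e 7
  true 1] [.f 175 false, .e 33 true 0] none, .tie (16, 0) [] [.f 188 false] none, .tie (4, 1) [.e
  5 false 1] [.f 175 false, .e 35 true 0] none, .tie (17, 0) [] [.f 190 false] none, .tie (4, 17)
  [.e 5 false 11] [.f 175 false, .f 166 true, .f 175 true, .f 16 true, .f 175 false, .e 37 true 0]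
  none]

/-- deductions -/
def items7 : List Item :=
  [.tie (18, 0) [] [.f 192 false] none, .tie (4, 41) [.f 16 true, .e 6 false 1] [.f 175 false, .e
  38 true 0] none, .tie (19, 0) [] [.f 194 false] none, .tie (4, 67) [.e 6 false 6] [.f 175 false,
  .f 166 true, .f 175 true, .f 16 true, .f 175 false, .e 42 true 0] none, .tie (20, 0) [] [.f 196
  false] none, .tie (4, 22) [.e 7 true 3] [.f 16 true, .f 175 false, .f 166 true, .f 175 true, .f
  16 true, .f 175 false, .e 44 true 0] none, .tie (21, 0) [] [.f 198 false] none, .tie (2, 26) [.e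
  2 false 14] [.f 11 true, .f 12 true, .f 168 false, .e 57 true 0] none, .tie (28, 0) [] [.f 200
  false] none, .tie (2, 0) [.e 2 false 0] [.f 171 false, .e 65 true 0] none, .tie (31, 0) [] [.f
  202 false] none, .tie (2, 185) [.e 9 true 21] [.f 11 true, .f 12 true, .f 171 false, .e 68 true
  0] none, .tie (32, 0) [] [.f 204 false, .f 168 true] none, .tie (4, 27) [.e 7 true 21] [.f 16
  true, .f 175 false, .f 166 true, .f 175 true, .f 16 true, .f 173 false, .e 71 true 0] none, .tie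
  (33, 0) [] [.f 206 false] none, .tie (4, 5) [.e 5 false 4] [.f 16 true, .f 175 false, .f 166
  true, .f 175 true, .f 16 true, .f 173 false, .e 72 true 0] none, .tie (34, 0) [] [.f 208 false]
  none, .tie (4, 47) [.f 16 true, .e 6 false 21] [.f 16 true, .f 175 false, .f 166 true, .f 175
  true, .f 16 true, .f 173 false, .e 74 true 0] none, .tie (35, 0) [] [.f 210 false] none, .tie
  (2, 185) [.e 9 true 21] [.f 12 true, .f 168 false, .f 151 false, .e 78 true 0] none, .tie (36,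
  0) [] [.f 212 false, .f 168 true] none, .tie (2, 92) [.e 8 true 4] [.f 12 true, .f 168 false, .f
  151 false, .e 79 true 0] none, .tie (37, 0) [] [.f 214 false, .f 175 true] none, .tie (2, 185)
  [.e 9 true 21] [.f 11 true, .f 168 false, .f 151 false, .e 81 true 0] none, .tie (38, 0) [] [.f
  216 false, .f 168 true] none, .tie (4, 47) [.f 16 true, .e 6 false 21] [.f 16 true, .f 175
  false, .f 166 true, .f 175 true, .f 16 true, .f 177 false, .e 84 true 0] none, .tie (39, 0) []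
  [.f 218 false] none, .tie (4, 27) [.e 7 true 21] [.f 16 true, .f 175 false, .f 166 true, .f 175
  true, .f 16 true, .f 177 false, .e 85 true 0] none, .tie (40, 0) [] [.f 220 false] none, .tie
  (4, 69) [.f 175 false, .f 166 true, .f 175 true, .f 16 true, .f 175 false, .e 8 false 31] [.f
  177 false, .e 87 true 0] none, .tie (41, 0) [] [.f 222 false] none, .tie (4, 10) [.e 5 false 7]
  [.f 16 true, .f 175 false, .f 166 true, .f 175 true, .f 16 true, .f 177 false, .e 88 true 0]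
  none, .tie (42, 0) [] [.f 224 false] none, .tie (4, 45) [.e 5 false 20] [.f 16 true, .f 175
  false, .f 166 true, .f 175 true, .f 177 false, .e 91 true 0] none, .tie (43, 0) [] [.f 226
  false] none, .tie (4, 30) [.f 175 false, .e 8 false 17] [.f 177 false, .e 92 true 0] none, .tie
  (44, 0) [] [.f 228 false] none, .tie (4, 32) [.f 175 false, .e 8 false 21] [.f 16 true, .f 175
  false, .f 166 true, .f 175 true, .f 16 true, .f 177 false, .e 94 true 0] none, .tie (45, 0) []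
  [.f 230 false] none, .tie (4, 127) [.f 16 true, .e 6 false 31] [.f 16 true, .f 175 false, .f 166
  true, .f 175 true, .f 177 false, .e 97 true 0] none]

/-- deductions -/
def items8 : List Item :=
  [.tie (46, 0) [] [.f 232 false] none, .tie (4, 178) [.e 7 true 25] [.f 16 true, .f 175 false, .f
  166 true, .f 175 true, .f 177 false, .e 101 true 0] none, .tie (47, 0) [] [.f 234 false] none,
  .tie (2, 385) [.e 9 true 22] [.f 12 true, .f 179 false, .e 104 true 0] none, .tie (48, 0) [] [.f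
  236 false, .f 168 true] none, .tie (2, 25) [.e 2 false 13] [.f 11 true, .f 12 true, .f 179
  false, .e 108 true 0] none, .tie (49, 0) [] [.f 238 false] none, .tie (2, 85) [.e 3 true 31] [.f
  11 true, .f 12 true, .f 179 false, .e 111 true 0] none, .tie (50, 0) [] [.f 240 false] none,
  .tie (2, 211) [.f 11 true, .f 12 true, .e 5 true 26] [.f 179 false, .e 115 true 0] none, .tie
  (51, 0) [] [.f 242 false] none, .tie (2, 178) [.e 3 true 25] [.f 181 false, .e 118 true 0] none,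
  .tie (52, 0) [] [.f 244 false] none, .tie (2, 25) [.e 2 false 13] [.f 11 true, .f 12 true, .f
  181 false, .e 119 true 0] none, .tie (53, 0) [] [.f 246 false] none, .tie (2, 315) [.f 11 true,
  .f 12 true, .e 9 true 29] [.f 12 true, .f 181 false, .e 121 true 0] none, .tie (54, 0) [] [.f
  248 false, .f 168 true] none, .tie (2, 178) [.e 3 true 25] [.f 11 true, .f 12 true, .f 181
  false, .e 123 true 0] none, .tie (55, 0) [] [.f 250 false] none, .tie (2, 180) [.f 11 true, .f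
  12 true, .e 5 true 19] [.f 181 false, .e 126 true 0] none, .tie (56, 0) [] [.f 252 false] none,
  .tie (2, 193) [.f 11 true, .f 12 true, .e 8 true 9] [.f 12 true, .f 181 false, .e 127 true 0]
  none, .tie (57, 0) [] [.f 254 false, .f 175 true] none, .tie (2, 315) [.f 11 true, .f 12 true,
  .e 9 true 29] [.f 11 true, .f 181 false, .e 129 true 0] none, .tie (58, 0) [] [.f 256 false, .f
  168 true] none, .tie (2, 180) [.f 11 true, .f 12 true, .e 5 true 19] [.f 11 true, .f 12 true, .f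
  181 false, .e 132 true 0] none, .tie (59, 0) [] [.f 258 false] none, .tie (2, 32) [.e 4 true 4]
  [.f 11 true, .f 12 true, .f 181 false, .e 134 true 0] none, .tie (60, 0) [] [.f 260 false] none,
  .tie (3, 167) [.f 15 true, .f 169 true, .e 6 true 20] [.f 14 true, .f 15 true, .f 183 false, .e
  137 true 0] none, .tie (61, 0) [] [.f 262 false] none, .tie (3, 70) [.e 4 false 25] [.f 15 true,
  .f 169 true, .f 183 false, .e 141 true 0] none, .tie (62, 0) [] [.f 264 false] none, .tie (3,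
  68) [.f 14 true, .e 6 true 11] [.f 15 true, .f 169 true, .f 169 true, .f 183 false, .e 143 true
  0] none, .tie (63, 0) [] [.f 266 false] none, .tie (3, 169) [.f 15 true, .f 169 true, .e 6 true
  26] [.f 183 false, .e 146 true 0] none, .tie (64, 0) [] [.f 268 false] none, .tie (3, 19) [.e 4
  false 12] [.f 14 true, .f 169 true, .f 14 true, .f 183 false, .e 149 true 0] none, .tie (65, 0)
  [] [.f 270 false] none, .tie (3, 22) [.e 6 true 3] [.f 15 true, .f 169 true, .f 169 true, .f 183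
  false, .e 151 true 0] none]

/-- deductions -/
def items9 : List Item :=
  [.tie (66, 0) [] [.f 272 false] none, .tie (3, 3) [.e 4 false 3] [.f 14 true, .f 169 true, .f
  169 true, .f 183 false, .e 153 true 0] none, .tie (67, 0) [] [.f 274 false] none, .tie (3, 71)
  [.f 14 true, .f 15 true, .e 6 true 19] [.f 14 true, .f 169 true, .f 14 true, .f 183 false, .e
  157 true 0] none, .tie (68, 0) [] [.f 276 false] none, .tie (3, 75) [.f 14 true, .f 169 true, .f
  169 true, .e 6 true 7] [.f 15 true, .f 169 true, .f 183 false, .e 159 true 0] none, .tie (69, 0)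
  [] [.f 278 false] none, .tie (2, 291) [.e 9 true 14] [.f 12 true, .f 185 false, .e 162 true 0]
  none, .tie (70, 0) [] [.f 280 false, .f 168 true] none, .tie (2, 197) [.e 8 true 14] [.f 12
  true, .f 185 false, .e 163 true 0] none, .tie (71, 0) [] [.f 282 false, .f 175 true] none, .tie
  (2, 68) [.f 11 true, .e 3 true 11] [.f 12 true, .f 185 false, .e 165 true 0] none, .tie (72, 0)
  [] [.f 284 false] none, .tie (2, 176) [.e 9 true 7] [.f 11 true, .f 185 false, .e 166 true 0]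
  none, .tie (73, 0) [] [.f 286 false, .f 168 true] none, .tie (2, 319) [.e 8 true 26] [.f 11
  true, .f 12 true, .f 185 false, .e 169 true 0] none, .tie (74, 0) [] [.f 288 false, .f 175 true]
  none, .tie (2, 22) [.e 3 true 3] [.f 12 true, .f 185 false, .e 171 true 0] none, .tie (75, 0) []
  [.f 290 false] none, .tie (2, 3) [.e 2 false 3] [.f 11 true, .f 185 false, .e 173 true 0] none,
  .tie (76, 0) [] [.f 292 false] none, .tie (2, 293) [.e 9 true 13] [.f 185 false, .e 176 true 0]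
  none, .tie (77, 0) [] [.f 294 false, .f 168 true] none, .tie (2, 386) [.e 9 true 26] [.f 11
  true, .f 12 true, .f 185 false, .e 178 true 0] none, .tie (78, 0) [] [.f 296 false, .f 168 true]
  none, .tie (4, 113) [.f 16 true, .f 175 false, .f 166 true, .f 175 true, .f 16 true, .f 175
  false, .e 8 false 19] [.f 16 true, .f 187 false, .e 181 true 0] none, .tie (79, 0) [] [.f 298
  false] none, .tie (4, 74) [.f 175 false, .f 166 true, .f 175 true, .f 16 true, .f 175 false, .e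
  8 false 30] [.f 16 true, .f 187 false, .e 182 true 0] none, .tie (80, 0) [] [.f 300 false] none,
  .tie (4, 89) [.f 16 true, .f 175 false, .f 166 true, .f 175 true, .e 6 false 7] [.f 16 true, .f
  187 false, .e 184 true 0] none, .tie (81, 0) [] [.f 302 false] none, .tie (4, 49) [.f 175 false,
  .e 8 false 0] [.f 16 true, .f 187 false, .e 186 true 0] none, .tie (82, 0) [] [.f 304 false]
  none, .tie (4, 115) [.e 7 true 19] [.f 16 true, .f 175 false, .f 166 true, .f 175 true, .f 16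
  true, .f 187 false, .e 189 true 0] none, .tie (83, 0) [] [.f 306 false] none, .tie (4, 39) [.e 5
  false 19] [.f 16 true, .f 175 false, .f 166 true, .f 175 true, .f 187 false, .e 190 true 0]
  none, .tie (84, 0) [] [.f 308 false] none, .tie (4, 43) [.f 16 true, .e 6 false 4] [.f 16 true,
  .f 175 false, .f 166 true, .f 175 true, .f 16 true, .f 187 false, .e 194 true 0] none, .tie (86,
  0) [] [.f 310 false] none, .tie (4, 115) [.e 7 true 19] [.f 16 true, .f 175 false, .f 166 true,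
  .f 175 true, .f 189 false, .e 197 true 0] none]

/-- deductions -/
def items10 : List Item :=
  [.tie (87, 0) [] [.f 312 false] none]

/-- the closing paths -/
def rows0 : List (List (List Step × Nat)) :=
  [[([.l 1, .f 0 true], 0), ([.l 2, .f 1 true], 0), ([.l 3, .f 2 true], 0), ([.l 4, .f 3 true],
  0), ([.l 5, .f 4 true], 0), ([.l 6, .f 5 true], 0), ([.e 0 true 0], 1)], [([.l 1, .f 6 true, .f
  7 true], 1), ([.l 2, .f 7 true], 1), ([.l 3, .f 6 true, .f 7 true, .f 9 true, .f 7 true], 1),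
  ([.l 4], 2), ([.l 5, .f 6 true, .f 8 true, .f 7 true], 1), ([.l 6], 3), ([.e 0 false 0], 0)],
  [([.l 1], 4), ([.l 2, .f 7 true], 2), ([.l 3, .f 9 true, .f 7 true], 4), ([.l 4], 1), ([.l 5, .f
  6 true, .f 7 true, .f 9 true, .f 8 true, .f 7 true], 2), ([.l 6], 5), ([.e 1 true 0], 2)], [([.l
  1, .f 6 true, .f 7 true], 3), ([.l 2, .f 6 true], 3), ([.l 3], 6), ([.l 4, .f 6 true, .f 9
  true], 3), ([.l 5], 7), ([.l 6], 1), ([.e 2 true 0], 13)], [([.l 1], 2), ([.l 2, .f 7 true], 4),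
  ([.l 3, .f 7 true, .f 9 true], 2), ([.l 4, .f 6 true, .f 7 true], 4), ([.l 5, .f 6 true, .f 7
  true, .f 9 true, .f 8 true, .f 7 true], 4), ([.l 6, .f 6 true, .f 7 true], 6), ([.e 1 true 1, .f
  7 true], 4)], [([.l 1, .f 6 true, .f 7 true], 6), ([.l 2, .f 6 true], 6), ([.l 3, .f 6 true, .f
  7 true], 5), ([.l 4, .f 6 true, .f 7 true, .f 9 true, .f 7 true], 6), ([.l 5], 8), ([.l 6], 2),
  ([.f 6 true, .f 7 true, .e 2 true 10, .f 12 true], 16)], [([.l 1, .f 6 true, .f 7 true], 5),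
  ([.l 2, .f 6 true], 5), ([.l 3], 3), ([.l 4, .f 6 true, .f 7 true, .f 9 true, .f 7 true], 5),
  ([.l 5], 9), ([.l 6, .f 6 true, .f 7 true], 4), ([.e 2 true 3, .f 11 true], 26)], [([.l 1, .f 6
  true, .f 7 true], 7), ([.l 2], 10), ([.l 3], 8), ([.l 4, .f 9 true, .f 7 true], 8), ([.l 5], 3),
  ([.l 6, .f 6 true, .f 8 true, .f 6 true], 7), ([.e 2 true 4, .f 12 true], 18)], [([.l 1, .f 6
  true, .f 7 true], 9), ([.l 2], 11), ([.l 3], 7), ([.l 4, .f 7 true, .f 9 true], 7), ([.l 5], 5),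
  ([.l 6, .f 7 true, .f 8 true, .f 9 true], 9), ([.e 2 true 14], 50)], [([.l 1, .f 6 true, .f 7
  true], 8), ([.l 2], 12), ([.l 3, .f 6 true, .f 7 true], 9), ([.l 4, .f 6 true, .f 7 true, .f 9
  true, .f 7 true], 9), ([.l 5], 6), ([.l 6, .f 9 true, .f 8 true, .f 7 true], 8), ([.e 2 true 12,
  .f 12 true], 20)], [([.l 1, .f 6 true, .f 7 true], 10), ([.l 2], 7), ([.l 3], 12), ([.l 4, .f 9
  true, .f 7 true], 11), ([.l 5, .f 6 true], 10), ([.l 6, .f 6 true, .f 8 true, .f 7 true], 10),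
  ([.e 2 true 13, .f 11 true, .f 12 true], 14)], [([.l 1, .f 6 true, .f 7 true], 12), ([.l 2], 8),
  ([.l 3, .f 6 true, .f 7 true], 11), ([.l 4, .f 7 true, .f 9 true], 10), ([.l 5, .f 6 true], 12),
  ([.l 6, .f 6 true, .f 7 true, .f 9 true, .f 8 true, .f 7 true], 11), ([.e 2 true 26], 27)],
  [([.l 1, .f 6 true, .f 7 true], 11), ([.l 2], 9), ([.l 3], 10), ([.l 4, .f 6 true, .f 7 true, .f
  9 true, .f 7 true], 12), ([.l 5, .f 6 true], 11), ([.l 6, .f 6 true, .f 8 true, .f 9 true], 12),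
  ([.e 2 true 25, .f 12 true], 36)], [([.l 1, .f 11 true, .f 12 true], 13), ([.l 2, .f 12 true],
  13), ([.l 3], 14), ([.l 4], 15), ([.l 5], 16), ([.l 6], 17), ([.e 2 false 0], 3)], [([.l 1],
  18), ([.l 2, .f 11 true], 18), ([.l 3], 13), ([.l 4], 19), ([.l 5], 20), ([.l 6], 21), ([.e 2
  false 3, .f 7 true], 10)], [([.l 1], 22), ([.l 2, .f 12 true], 15), ([.l 3], 23), ([.l 4], 13),
  ([.l 5], 24), ([.l 6], 25), ([.e 3 true 0], 15)], [([.l 1, .f 11 true, .f 12 true], 16), ([.l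
  2], 26), ([.l 3], 27), ([.l 4], 28), ([.l 5], 13), ([.l 6], 29), ([.e 2 false 4, .f 7 true],
  5)], [([.l 1, .f 11 true, .f 12 true], 17), ([.l 2, .f 11 true], 17), ([.l 3], 30), ([.l 4],
  31), ([.l 5], 32), ([.l 6], 13), ([.e 4 true 0], 121)], [([.l 1], 14), ([.l 2, .f 11 true], 14),
  ([.l 3, .f 11 true, .f 12 true], 18), ([.l 4], 33), ([.l 5, .f 11 true, .f 12 true], 27), ([.l
  6, .f 11 true, .f 12 true], 31), ([.e 2 false 10, .f 6 true], 7)], [([.l 1, .f 11 true, .f 12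
  true], 23), ([.l 2, .f 11 true], 33), ([.l 3], 34), ([.l 4], 14), ([.l 5, .f 11 true, .f 12
  true], 28), ([.l 6], 35), ([.f 11 true, .f 12 true, .e 3 true 10, .f 12 true], 24)]]

/-- the closing paths -/
def rows1 : List (List (List Step × Nat)) :=
  [[([.l 1, .f 11 true, .f 12 true], 27), ([.l 2], 36), ([.l 3, .f 11 true, .f 12 true], 20), ([.l
  4], 37), ([.l 5], 14), ([.l 6], 38), ([.e 2 false 12, .f 6 true], 9)], [([.l 1, .f 11 true, .f
  12 true], 31), ([.l 2, .f 11 true], 21), ([.l 3], 39), ([.l 4, .f 11 true, .f 12 true], 21),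
  ([.l 5], 40), ([.l 6], 14), ([.e 5 true 0], 148)], [([.l 1], 15), ([.l 2, .f 12 true], 22), ([.l
  3], 33), ([.l 4, .f 11 true, .f 12 true], 22), ([.l 5], 41), ([.l 6, .f 11 true, .f 12 true],
  30), ([.e 3 true 1, .f 12 true], 22)], [([.l 1, .f 11 true, .f 12 true], 19), ([.l 2, .f 11
  true], 34), ([.l 3], 15), ([.l 4], 34), ([.l 5], 42), ([.l 6], 43), ([.e 3 true 3, .f 12 true],
  70)], [([.l 1], 41), ([.l 2], 44), ([.l 3], 45), ([.l 4, .f 11 true, .f 12 true], 27), ([.l 5],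
  15), ([.l 6], 46), ([.e 3 true 4, .f 11 true], 19)], [([.l 1, .f 11 true, .f 12 true], 30), ([.l
  2, .f 11 true], 30), ([.l 3, .f 11 true, .f 12 true], 25), ([.l 4], 39), ([.l 5], 47), ([.l 6],
  15), ([.f 11 true, .f 12 true, .e 4 true 10, .f 15 true], 124)], [([.l 1, .f 11 true, .f 12
  true], 26), ([.l 2], 16), ([.l 3], 36), ([.l 4], 48), ([.l 5, .f 12 true], 26), ([.l 6], 49),
  ([.e 2 false 13, .f 6 true, .f 7 true], 6)], [([.l 1, .f 11 true, .f 12 true], 20), ([.l 2],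
  50), ([.l 3], 16), ([.l 4, .f 11 true, .f 12 true], 24), ([.l 5, .f 11 true, .f 12 true], 18),
  ([.l 6], 51), ([.e 2 false 14], 11)], [([.l 1], 42), ([.l 2], 48), ([.l 3], 41), ([.l 4], 16),
  ([.l 5, .f 11 true, .f 12 true], 19), ([.l 6], 52), ([.e 3 true 21, .f 12 true], 48)], [([.l 1,
  .f 11 true, .f 12 true], 29), ([.l 2, .f 11 true, .f 12 true], 49), ([.l 3], 53), ([.l 4], 38),
  ([.l 5], 54), ([.l 6], 16), ([.e 8 true 0, .f 175 true], 185)], [([.l 1, .f 11 true, .f 12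
  true], 25), ([.l 2, .f 11 true], 25), ([.l 3], 17), ([.l 4], 35), ([.l 5], 55), ([.l 6, .f 11
  true, .f 12 true], 22), ([.e 4 true 3, .f 14 true], 131)], [([.l 1, .f 11 true, .f 12 true],
  21), ([.l 2, .f 11 true], 31), ([.l 3], 43), ([.l 4], 17), ([.l 5], 56), ([.l 6, .f 11 true, .f
  12 true], 18), ([.f 11 true, .f 12 true, .e 5 true 1, .f 16 true], 149)], [([.l 1, .f 11 true,
  .f 12 true], 32), ([.l 2], 57), ([.l 3], 47), ([.l 4], 58), ([.l 5], 17), ([.l 6, .f 11 true, .f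
  12 true], 54), ([.e 4 true 4, .f 15 true], 125)], [([.l 1, .f 11 true, .f 12 true], 34), ([.l 2,
  .f 11 true], 19), ([.l 3], 22), ([.l 4], 18), ([.l 5, .f 11 true, .f 12 true], 37), ([.l 6],
  59), ([.e 3 true 6], 44)], [([.l 1, .f 11 true, .f 12 true], 33), ([.l 2, .f 11 true], 23), ([.l
  3], 19), ([.l 4], 23), ([.l 5, .f 11 true, .f 12 true], 45), ([.l 6, .f 11 true, .f 12 true],
  39), ([.f 11 true, .e 3 true 11, .f 12 true], 41)], [([.l 1, .f 11 true, .f 12 true], 43), ([.l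
  2, .f 11 true], 39), ([.l 3], 59), ([.l 4], 30), ([.l 5, .f 11 true, .f 12 true], 58), ([.l 6],
  19), ([.f 11 true, .e 5 true 11, .f 16 true], 156)], [([.l 1, .f 11 true, .f 12 true], 50), ([.l
  2], 20), ([.l 3], 26), ([.l 4], 60), ([.l 5, .f 12 true], 50), ([.l 6], 61), ([.e 2 false 25, .f
  6 true], 12)], [([.l 1, .f 11 true, .f 12 true], 45), ([.l 2], 60), ([.l 3, .f 11 true, .f 12
  true], 42), ([.l 4], 20), ([.l 5, .f 11 true, .f 12 true], 33), ([.l 6], 62), ([.f 11 true, .f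
  12 true, .e 3 true 19, .f 11 true, .f 12 true], 37)], [([.l 1, .f 11 true, .f 12 true], 51),
  ([.l 2], 63), ([.l 3], 64), ([.l 4], 29), ([.l 5], 65), ([.l 6], 20), ([.e 9 true 0, .f 168
  true], 97)], [([.l 1], 59), ([.l 2, .f 11 true], 35), ([.l 3], 21), ([.l 4], 25), ([.l 5], 66),
  ([.l 6, .f 11 true, .f 12 true], 34), ([.e 5 true 3, .f 16 true], 181)]]

/-- the closing paths -/
def rows2 : List (List (List Step × Nat)) :=
  [[([.l 1, .f 11 true, .f 12 true], 56), ([.l 2], 67), ([.l 3, .f 11 true, .f 12 true], 58), ([.l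
  4], 68), ([.l 5], 21), ([.l 6], 69), ([.e 5 true 4, .f 16 true], 158)], [([.l 1], 24), ([.l 2],
  70), ([.l 3], 28), ([.l 4, .f 11 true, .f 12 true], 45), ([.l 5], 22), ([.l 6], 64), ([.e 3 true
  7, .f 11 true, .f 12 true], 34)], [([.l 1], 28), ([.l 2], 71), ([.l 3, .f 11 true, .f 12 true],
  37), ([.l 4, .f 11 true, .f 12 true], 42), ([.l 5], 23), ([.l 6, .f 11 true, .f 12 true], 53),
  ([.e 3 true 12, .f 12 true], 42)], [([.l 1, .f 11 true, .f 12 true], 35), ([.l 2, .f 12 true],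
  59), ([.l 3], 31), ([.l 4], 59), ([.l 5], 72), ([.l 6], 23), ([.f 11 true, .f 12 true, .e 5 true
  6], 167)], [([.l 1], 70), ([.l 2], 24), ([.l 3], 71), ([.l 4, .f 11 true, .f 12 true], 50), ([.l
  5, .f 12 true], 44), ([.l 6], 73), ([.e 3 true 13], 33)], [([.l 1, .f 11 true, .f 12 true], 37),
  ([.l 2], 74), ([.l 3], 24), ([.l 4, .f 11 true, .f 12 true], 41), ([.l 5, .f 11 true, .f 12
  true], 34), ([.l 6], 75), ([.e 3 true 14], 74)], [([.l 1], 64), ([.l 2], 76), ([.l 3], 62), ([.l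
  4, .f 11 true, .f 12 true], 53), ([.l 5], 77), ([.l 6], 24), ([.e 9 true 10, .f 168 true, .f 11
  true, .f 12 true], 119)], [([.l 1, .f 11 true, .f 12 true], 55), ([.l 2], 78), ([.l 3], 32),
  ([.l 4, .f 11 true, .f 12 true], 56), ([.l 5], 25), ([.l 6], 79), ([.e 4 true 14], 144)], [([.l
  1], 71), ([.l 2], 28), ([.l 3], 74), ([.l 4], 26), ([.l 5, .f 11 true], 60), ([.l 6], 80), ([.e
  3 true 31, .f 12 true], 28)], [([.l 1, .f 11 true, .f 12 true], 49), ([.l 2, .f 11 true, .f 12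
  true], 29), ([.l 3], 81), ([.l 4, .f 11 true, .f 12 true], 63), ([.l 5], 82), ([.l 6], 26), ([.f
  11 true, .f 12 true, .e 8 true 2, .f 175 true, .f 16 true], 166)], [([.l 1, .f 11 true, .f 12
  true], 36), ([.l 2], 27), ([.l 3, .f 11 true, .f 12 true], 50), ([.l 4, .f 11 true, .f 12 true],
  44), ([.l 5, .f 12 true], 36), ([.l 6, .f 11 true, .f 12 true], 63), ([.e 2 false 26], 8)],
  [([.l 1, .f 11 true, .f 12 true], 38), ([.l 2, .f 11 true, .f 12 true], 61), ([.l 3], 75), ([.l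
  4, .f 11 true, .f 12 true], 51), ([.l 5, .f 11 true, .f 12 true], 69), ([.l 6], 27), ([.f 11
  true, .f 12 true, .e 9 true 1, .f 168 true], 112)], [([.l 1, .f 11 true, .f 12 true], 53), ([.l
  2, .f 11 true, .f 12 true], 81), ([.l 3, .f 11 true, .f 12 true], 52), ([.l 4], 75), ([.l 5],
  83), ([.l 6], 28), ([.f 11 true, .f 12 true, .e 8 true 10, .f 175 true, .f 175 false, .f 166
  true, .f 175 true, .f 16 true], 176)], [([.l 1, .f 11 true, .f 12 true], 52), ([.l 2, .f 11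
  true, .f 12 true], 80), ([.l 3], 29), ([.l 4, .f 11 true, .f 12 true], 46), ([.l 5], 84), ([.l
  6, .f 11 true, .f 12 true], 42), ([.e 8 true 3, .f 175 true, .f 175 false, .f 166 true, .f 175
  true], 186)], [([.l 1, .f 11 true, .f 12 true], 54), ([.l 2], 85), ([.l 3], 83), ([.l 4], 77),
  ([.l 5], 29), ([.l 6, .f 11 true, .f 12 true], 32), ([.e 8 true 4, .f 175 true, .f 16 true],
  171)], [([.l 1, .f 11 true, .f 12 true], 47), ([.l 2], 86), ([.l 3, .f 11 true, .f 12 true],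
  55), ([.l 4], 66), ([.l 5], 30), ([.l 6, .f 11 true, .f 12 true], 77), ([.e 4 true 12, .f 15
  true], 127)], [([.l 1, .f 11 true, .f 12 true], 40), ([.l 2], 87), ([.l 3], 68), ([.l 4, .f 11
  true, .f 12 true], 47), ([.l 5], 31), ([.l 6, .f 11 true, .f 12 true], 65), ([.f 11 true, .f 12
  true, .e 5 true 7, .f 16 true], 159)], [([.l 1, .f 11 true, .f 12 true], 57), ([.l 2], 32), ([.l
  3], 86), ([.l 4], 88), ([.l 5, .f 11 true], 57), ([.l 6], 85), ([.e 4 true 13, .f 14 true, .f 15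
  true], 122)], [([.l 1], 72), ([.l 2], 88), ([.l 3, .f 11 true, .f 12 true], 40), ([.l 4], 32),
  ([.l 5, .f 11 true, .f 12 true], 35), ([.l 6, .f 11 true, .f 12 true], 84), ([.f 11 true, .f 12
  true, .e 5 true 14], 202)], [([.l 1], 39), ([.l 2, .f 12 true], 43), ([.l 3], 35), ([.l 4], 43),
  ([.l 5, .f 11 true, .f 12 true], 68), ([.l 6], 33), ([.e 5 true 10, .f 16 true], 152)]]

/-- the closing paths -/
def rows3 : List (List (List Step × Nat)) :=
  [[([.l 1, .f 11 true, .f 12 true], 74), ([.l 2], 37), ([.l 3, .f 11 true, .f 12 true], 70), ([.l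
  4], 36), ([.l 5, .f 11 true], 48), ([.l 6], 89), ([.f 11 true, .f 12 true, .e 3 true 30, .f 11
  true, .f 12 true], 60)], [([.l 1], 63), ([.l 2, .f 11 true, .f 12 true], 51), ([.l 3], 76), ([.l
  4, .f 11 true, .f 12 true], 61), ([.l 5], 90), ([.l 6], 36), ([.e 9 true 5, .f 168 true], 92)],
  [([.l 1, .f 11 true, .f 12 true], 75), ([.l 2], 91), ([.l 3], 46), ([.l 4, .f 11 true, .f 12
  true], 64), ([.l 5], 92), ([.l 6], 37), ([.e 9 true 17, .f 168 true], 62)], [([.l 1], 61), ([.l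
  2], 38), ([.l 3], 91), ([.l 4, .f 11 true, .f 12 true], 49), ([.l 5], 93), ([.l 6, .f 11 true,
  .f 12 true], 50), ([.e 9 true 2, .f 168 true, .f 11 true, .f 12 true], 114)], [([.l 1], 46),
  ([.l 2], 73), ([.l 3], 38), ([.l 4, .f 11 true, .f 12 true], 62), ([.l 5], 79), ([.l 6], 41),
  ([.e 9 true 3, .f 168 true], 111)], [([.l 1], 69), ([.l 2], 94), ([.l 3], 92), ([.l 4, .f 11
  true, .f 12 true], 83), ([.l 5], 38), ([.l 6, .f 11 true, .f 12 true], 56), ([.e 9 true 4, .f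
  168 true], 94)], [([.l 1, .f 11 true, .f 12 true], 68), ([.l 2], 95), ([.l 3, .f 11 true, .f 12
  true], 72), ([.l 4], 55), ([.l 5], 39), ([.l 6, .f 11 true, .f 12 true], 92), ([.e 5 true 12, .f
  16 true], 161)], [([.l 1, .f 11 true, .f 12 true], 87), ([.l 2], 40), ([.l 3], 95), ([.l 4],
  96), ([.l 5, .f 11 true], 67), ([.l 6], 94), ([.e 5 true 13], 154)], [([.l 1, .f 11 true, .f 12
  true], 66), ([.l 2], 96), ([.l 3], 56), ([.l 4], 40), ([.l 5, .f 11 true, .f 12 true], 59), ([.l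
  6], 97), ([.f 11 true, .f 12 true, .e 5 true 21, .f 16 true], 212)], [([.l 1], 65), ([.l 2],
  98), ([.l 3], 77), ([.l 4, .f 11 true, .f 12 true], 92), ([.l 5, .f 11 true, .f 12 true], 51),
  ([.l 6], 40), ([.e 9 true 7, .f 168 true], 69)], [([.l 1], 44), ([.l 2], 41), ([.l 3, .f 11
  true, .f 12 true], 60), ([.l 4, .f 11 true, .f 12 true], 74), ([.l 5, .f 12 true], 70), ([.l 6],
  76), ([.e 3 true 20, .f 12 true], 23)], [([.l 1], 48), ([.l 2], 42), ([.l 3], 44), ([.l 4, .f 11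
  true, .f 12 true], 71), ([.l 5, .f 12 true], 74), ([.l 6, .f 11 true, .f 12 true], 81), ([.e 3
  true 25, .f 12 true], 71)], [([.l 1], 58), ([.l 2], 99), ([.l 3, .f 11 true, .f 12 true], 66),
  ([.l 4, .f 11 true, .f 12 true], 72), ([.l 5], 43), ([.l 6], 83), ([.f 11 true, .f 12 true, .e 5
  true 19], 175)], [([.l 1], 76), ([.l 2], 64), ([.l 3], 89), ([.l 4, .f 11 true, .f 12 true],
  91), ([.l 5], 100), ([.l 6], 44), ([.e 9 true 11, .f 168 true], 120)], [([.l 1, .f 11 true, .f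
  12 true], 60), ([.l 2], 45), ([.l 3], 48), ([.l 4, .f 11 true, .f 12 true], 70), ([.l 5, .f 12
  true], 71), ([.l 6, .f 11 true, .f 12 true], 91), ([.e 3 true 26], 45)], [([.l 1, .f 11 true, .f
  12 true], 62), ([.l 2, .f 11 true, .f 12 true], 89), ([.l 3], 51), ([.l 4], 52), ([.l 5, .f 11
  true, .f 12 true], 97), ([.l 6], 45), ([.f 11 true, .f 12 true, .e 9 true 6, .f 168 true], 89)],
  [([.l 1], 73), ([.l 2], 46), ([.l 3], 61), ([.l 4], 80), ([.l 5], 101), ([.l 6], 70), ([.e 9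
  true 15, .f 168 true, .f 11 true, .f 12 true], 107)], [([.l 1], 79), ([.l 2], 102), ([.l 3],
  69), ([.l 4], 54), ([.l 5], 46), ([.l 6, .f 11 true, .f 12 true], 55), ([.e 9 true 21, .f 168
  true], 93)], [([.l 1, .f 11 true, .f 12 true], 86), ([.l 2], 47), ([.l 3, .f 11 true, .f 12
  true], 78), ([.l 4, .f 11 true, .f 12 true], 87), ([.l 5, .f 11 true], 86), ([.l 6], 102), ([.e
  4 true 26], 132)], [([.l 1], 77), ([.l 2], 103), ([.l 3], 97), ([.l 4, .f 11 true, .f 12 true],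
  79), ([.l 5], 64), ([.l 6], 47), ([.e 9 true 12, .f 168 true], 110)]]

/-- the closing paths -/
def rows4 : List (List (List Step × Nat)) :=
  [[([.l 1, .f 11 true, .f 12 true], 81), ([.l 2, .f 11 true, .f 12 true], 53), ([.l 3, .f 11
  true, .f 12 true], 80), ([.l 4], 76), ([.l 5], 104), ([.l 6], 48), ([.f 11 true, .f 12 true, .e
  8 true 11, .f 175 true, .f 175 false, .f 166 true, .f 175 true, .f 16 true], 172)], [([.l 1, .f
  11 true, .f 12 true], 80), ([.l 2, .f 11 true, .f 12 true], 52), ([.l 3], 49), ([.l 4], 89),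
  ([.l 5], 105), ([.l 6, .f 11 true, .f 12 true], 71), ([.f 11 true, .f 12 true, .e 8 true 8, .f
  175 true, .f 16 true, .f 175 false, .f 166 true, .f 175 true], 162)], [([.l 1, .f 11 true, .f 12
  true], 82), ([.l 2], 106), ([.l 3], 104), ([.l 4], 107), ([.l 5], 49), ([.l 6, .f 11 true], 82),
  ([.f 11 true, .f 12 true, .e 8 true 9, .f 175 true], 153)], [([.l 1, .f 11 true, .f 12 true],
  84), ([.l 2], 108), ([.l 3], 54), ([.l 4, .f 11 true, .f 12 true], 65), ([.l 5], 52), ([.l 6],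
  72), ([.e 8 true 14, .f 175 true, .f 16 true, .f 175 false, .f 166 true, .f 175 true], 213)],
  [([.l 1, .f 11 true, .f 12 true], 83), ([.l 2], 109), ([.l 3, .f 11 true, .f 12 true], 84), ([.l
  4, .f 11 true, .f 12 true], 97), ([.l 5], 53), ([.l 6, .f 11 true, .f 12 true], 58), ([.e 8 true
  12, .f 175 true, .f 175 false, .f 166 true, .f 175 true, .f 16 true], 206)], [([.l 1, .f 11
  true, .f 12 true], 85), ([.l 2], 54), ([.l 3], 109), ([.l 4], 102), ([.l 5, .f 11 true, .f 12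
  true], 106), ([.l 6], 57), ([.e 8 true 13, .f 175 true], 180)], [([.l 1, .f 11 true, .f 12
  true], 78), ([.l 2], 55), ([.l 3], 57), ([.l 4], 95), ([.l 5, .f 11 true], 78), ([.l 6, .f 11
  true, .f 12 true], 103), ([.e 4 true 25, .f 15 true], 136)], [([.l 1, .f 11 true, .f 12 true],
  67), ([.l 2], 56), ([.l 3], 99), ([.l 4, .f 11 true, .f 12 true], 78), ([.l 5, .f 11 true], 87),
  ([.l 6, .f 11 true, .f 12 true], 98), ([.f 11 true, .f 12 true, .e 5 true 20, .f 16 true],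
  150)], [([.l 1], 99), ([.l 2], 58), ([.l 3], 96), ([.l 4], 57), ([.l 5, .f 12 true], 95), ([.l
  6], 108), ([.f 11 true, .f 12 true, .e 5 true 26], 168)], [([.l 1], 91), ([.l 2, .f 11 true, .f
  12 true], 75), ([.l 3], 73), ([.l 4], 81), ([.l 5, .f 11 true, .f 12 true], 107), ([.l 6], 60),
  ([.e 9 true 18, .f 168 true, .f 11 true, .f 12 true], 75)], [([.l 1], 93), ([.l 2], 110), ([.l
  3, .f 11 true, .f 12 true], 107), ([.l 4, .f 11 true, .f 12 true], 100), ([.l 5], 61), ([.l 6,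
  .f 11 true], 90), ([.e 9 true 16, .f 168 true], 103)], [([.l 1], 89), ([.l 2], 62), ([.l 3],
  63), ([.l 4, .f 11 true, .f 12 true], 73), ([.l 5], 111), ([.l 6, .f 11 true, .f 12 true], 74),
  ([.e 9 true 8, .f 168 true], 91)], [([.l 1], 97), ([.l 2], 112), ([.l 3], 65), ([.l 4, .f 11
  true, .f 12 true], 69), ([.l 5], 62), ([.l 6, .f 11 true, .f 12 true], 66), ([.e 9 true 14, .f
  168 true], 61)], [([.l 1], 90), ([.l 2], 113), ([.l 3], 100), ([.l 4], 104), ([.l 5], 63), ([.l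
  6, .f 11 true], 93), ([.e 9 true 9, .f 168 true], 77)], [([.l 1], 98), ([.l 2], 65), ([.l 3],
  103), ([.l 4, .f 11 true, .f 12 true], 108), ([.l 5], 113), ([.l 6], 67), ([.e 9 true 13, .f 168
  true], 65)], [([.l 1, .f 11 true, .f 12 true], 96), ([.l 2], 66), ([.l 3], 67), ([.l 4], 86),
  ([.l 5, .f 12 true], 88), ([.l 6], 114), ([.e 5 true 25, .f 16 true], 192)], [([.l 1, .f 11
  true, .f 12 true], 95), ([.l 2], 68), ([.l 3], 88), ([.l 4], 67), ([.l 5, .f 11 true], 99), ([.l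
  6], 112), ([.f 11 true, .f 12 true, .e 5 true 31, .f 16 true], 182)], [([.l 1], 92), ([.l 2, .f
  11 true, .f 12 true], 114), ([.l 3], 79), ([.l 4, .f 11 true, .f 12 true], 84), ([.l 5, .f 11
  true, .f 12 true], 75), ([.l 6], 68), ([.e 9 true 19, .f 168 true], 38)], [([.l 1], 94), ([.l
  2], 69), ([.l 3, .f 11 true, .f 12 true], 114), ([.l 4, .f 11 true, .f 12 true], 112), ([.l 5],
  110), ([.l 6, .f 11 true, .f 12 true], 87), ([.e 9 true 20, .f 168 true], 98)], [([.l 1], 88),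
  ([.l 2], 72), ([.l 3], 87), ([.l 4, .f 11 true, .f 12 true], 99), ([.l 5, .f 11 true], 96), ([.l
  6, .f 11 true, .f 12 true], 109), ([.f 11 true, .f 12 true, .e 5 true 30], 207)]]

/-- the closing paths -/
def rows5 : List (List (List Step × Nat)) :=
  [[([.l 1], 101), ([.l 2], 115), ([.l 3], 93), ([.l 4, .f 11 true, .f 12 true], 90), ([.l 5],
  73), ([.l 6, .f 12 true], 101), ([.e 9 true 24, .f 168 true], 100)], [([.l 1], 100), ([.l 2],
  116), ([.l 3], 111), ([.l 4], 105), ([.l 5], 76), ([.l 6, .f 12 true], 100), ([.e 9 true 27, .f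
  168 true], 116)], [([.l 1], 103), ([.l 2], 77), ([.l 3], 112), ([.l 4], 85), ([.l 5], 116), ([.l
  6], 78), ([.e 9 true 31, .f 168 true], 113)], [([.l 1], 102), ([.l 2], 79), ([.l 3], 94), ([.l
  4, .f 11 true, .f 12 true], 103), ([.l 5], 115), ([.l 6, .f 11 true, .f 12 true], 86), ([.e 9
  true 25, .f 168 true], 90)], [([.l 1, .f 11 true, .f 12 true], 105), ([.l 2], 117), ([.l 3],
  82), ([.l 4], 93), ([.l 5], 80), ([.l 6, .f 11 true], 111), ([.f 11 true, .f 12 true, .e 8 true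
  24, .f 175 true, .f 175 false, .f 166 true, .f 175 true], 191)], [([.l 1, .f 11 true, .f 12
  true], 104), ([.l 2], 118), ([.l 3, .f 11 true, .f 12 true], 105), ([.l 4], 101), ([.l 5], 81),
  ([.l 6, .f 11 true], 107), ([.f 11 true, .f 12 true, .e 8 true 22, .f 175 true], 187)], [([.l 1,
  .f 11 true, .f 12 true], 106), ([.l 2], 82), ([.l 3], 118), ([.l 4], 119), ([.l 5, .f 11 true,
  .f 12 true], 85), ([.l 6, .f 12 true], 106), ([.f 11 true, .f 12 true, .e 8 true 23, .f 175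
  true, .f 16 true], 157)], [([.l 1, .f 11 true, .f 12 true], 111), ([.l 2], 119), ([.l 3, .f 11
  true, .f 12 true], 90), ([.l 4], 82), ([.l 5, .f 11 true, .f 12 true], 89), ([.l 6, .f 11 true],
  105), ([.f 11 true, .f 12 true, .e 9 true 29, .f 168 true], 76)], [([.l 1, .f 11 true, .f 12
  true], 109), ([.l 2], 83), ([.l 3, .f 11 true, .f 12 true], 108), ([.l 4, .f 11 true, .f 12
  true], 94), ([.l 5, .f 11 true, .f 12 true], 118), ([.l 6], 88), ([.e 8 true 26, .f 175 true, .f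
  16 true, .f 175 false, .f 166 true, .f 175 true, .f 16 true], 197)], [([.l 1, .f 11 true, .f 12
  true], 108), ([.l 2], 84), ([.l 3], 85), ([.l 4], 114), ([.l 5, .f 11 true, .f 12 true], 117),
  ([.l 6, .f 11 true, .f 12 true], 99), ([.e 8 true 25, .f 175 true, .f 175 false, .f 166 true, .f
  175 true], 193)], [([.l 1], 113), ([.l 2], 90), ([.l 3], 116), ([.l 4, .f 11 true, .f 12 true],
  115), ([.l 5], 98), ([.l 6, .f 11 true], 113), ([.e 9 true 28, .f 168 true], 79)], [([.l 1, .f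
  11 true, .f 12 true], 107), ([.l 2], 120), ([.l 3], 101), ([.l 4, .f 11 true, .f 12 true], 111),
  ([.l 5], 91), ([.l 6, .f 11 true], 104), ([.e 9 true 22, .f 168 true], 64)], [([.l 1, .f 11
  true, .f 12 true], 114), ([.l 2], 92), ([.l 3], 102), ([.l 4, .f 11 true, .f 12 true], 98), ([.l
  5], 120), ([.l 6], 96), ([.e 9 true 26, .f 168 true, .f 11 true, .f 12 true], 51)], [([.l 1],
  110), ([.l 2], 93), ([.l 3], 120), ([.l 4], 117), ([.l 5], 94), ([.l 6, .f 11 true], 110), ([.e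
  9 true 23, .f 168 true], 102)], [([.l 1, .f 11 true, .f 12 true], 112), ([.l 2, .f 11 true, .f
  12 true], 97), ([.l 3, .f 11 true, .f 12 true], 98), ([.l 4], 109), ([.l 5], 119), ([.l 6], 95),
  ([.f 11 true, .f 12 true, .e 9 true 30, .f 168 true], 63)], [([.l 1], 116), ([.l 2], 100), ([.l
  3, .f 11 true, .f 12 true], 119), ([.l 4, .f 11 true, .f 12 true], 110), ([.l 5], 103), ([.l 6,
  .f 12 true], 115), ([.e 9 true 33, .f 168 true], 115)], [([.l 1], 115), ([.l 2], 101), ([.l 3],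
  110), ([.l 4], 118), ([.l 5], 102), ([.l 6, .f 12 true], 116), ([.e 9 true 34, .f 168 true],
  101)], [([.l 1, .f 11 true, .f 12 true], 118), ([.l 2], 104), ([.l 3, .f 11 true, .f 12 true],
  117), ([.l 4], 113), ([.l 5, .f 11 true, .f 12 true], 109), ([.l 6, .f 12 true], 119), ([.f 11
  true, .f 12 true, .e 8 true 33, .f 175 true, .f 16 true], 173)], [([.l 1, .f 11 true, .f 12
  true], 117), ([.l 2], 105), ([.l 3], 106), ([.l 4], 116), ([.l 5, .f 11 true, .f 12 true], 108),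
  ([.l 6, .f 12 true], 120), ([.f 11 true, .f 12 true, .e 8 true 32, .f 175 true, .f 16 true, .f
  175 false, .f 166 true, .f 175 true], 209)], [([.l 1, .f 11 true, .f 12 true], 120), ([.l 2],
  107), ([.l 3, .f 11 true, .f 12 true], 115), ([.l 4], 106), ([.l 5], 114), ([.l 6, .f 12 true],
  117), ([.f 11 true, .f 12 true, .e 9 true 35, .f 168 true], 46)]]

/-- the closing paths -/
def rows6 : List (List (List Step × Nat)) :=
  [[([.l 1, .f 11 true, .f 12 true], 119), ([.l 2], 111), ([.l 3], 113), ([.l 4, .f 11 true, .f 12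
  true], 120), ([.l 5], 112), ([.l 6, .f 12 true], 118), ([.e 9 true 32, .f 168 true], 73)], [([.l
  1, .f 14 true, .f 15 true], 121), ([.l 2, .f 15 true], 121), ([.l 3], 122), ([.l 4], 123), ([.l
  5], 124), ([.l 6, .f 15 true, .f 169 true, .f 169 true], 121), ([.e 4 false 0], 17)], [([.l 1],
  125), ([.l 2, .f 14 true], 125), ([.l 3], 121), ([.l 4], 126), ([.l 5], 127), ([.l 6], 128),
  ([.e 4 false 3, .f 12 true], 57)], [([.l 1, .f 14 true, .f 169 true, .f 169 true], 128), ([.l 2,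
  .f 15 true], 123), ([.l 3], 129), ([.l 4], 121), ([.l 5], 130), ([.l 6, .f 14 true, .f 169 true,
  .f 169 true], 125), ([.e 6 true 0, .f 16 true], 155)], [([.l 1, .f 14 true, .f 15 true], 124),
  ([.l 2], 131), ([.l 3], 132), ([.l 4], 133), ([.l 5], 121), ([.l 6, .f 15 true, .f 169 true],
  131), ([.e 4 false 4, .f 12 true], 25)], [([.l 1], 122), ([.l 2, .f 14 true], 122), ([.l 3, .f
  14 true, .f 15 true], 125), ([.l 4], 134), ([.l 5, .f 14 true, .f 15 true], 132), ([.l 6, .f 14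
  true, .f 169 true, .f 169 true], 123), ([.e 4 false 10, .f 11 true], 32)], [([.l 1, .f 14 true,
  .f 15 true], 129), ([.l 2, .f 14 true], 134), ([.l 3], 135), ([.l 4], 122), ([.l 5, .f 14 true,
  .f 15 true], 133), ([.l 6, .f 15 true, .f 169 true, .f 169 true], 126), ([.f 14 true, .f 15
  true, .e 6 true 10], 179)], [([.l 1, .f 14 true, .f 15 true], 132), ([.l 2], 136), ([.l 3, .f 14
  true, .f 15 true], 127), ([.l 4], 137), ([.l 5], 122), ([.l 6], 138), ([.e 4 false 12, .f 11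
  true], 55)], [([.l 1, .f 14 true, .f 169 true, .f 169 true], 123), ([.l 2, .f 14 true], 128),
  ([.l 3, .f 14 true, .f 169 true, .f 169 true], 134), ([.l 4, .f 14 true, .f 15 true], 128), ([.l
  5], 139), ([.l 6], 122), ([.f 14 true, .f 169 true, .f 169 true, .e 6 true 1], 177)], [([.l 1,
  .f 14 true, .f 15 true], 126), ([.l 2, .f 14 true], 135), ([.l 3], 123), ([.l 4], 135), ([.l 5],
  140), ([.l 6, .f 15 true, .f 169 true, .f 169 true], 129), ([.e 6 true 3, .f 16 true, .f 175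
  false, .f 166 true, .f 175 true, .f 16 true], 219)], [([.l 1, .f 14 true, .f 169 true, .f 169
  true], 139), ([.l 2], 141), ([.l 3], 142), ([.l 4, .f 14 true, .f 15 true], 132), ([.l 5], 123),
  ([.l 6], 143), ([.e 6 true 4], 160)], [([.l 1, .f 14 true, .f 15 true], 131), ([.l 2], 124),
  ([.l 3], 136), ([.l 4, .f 14 true, .f 169 true], 138), ([.l 5, .f 15 true], 131), ([.l 6, .f 14
  true, .f 169 true], 124), ([.e 4 false 13, .f 11 true, .f 12 true], 30)], [([.l 1, .f 14 true,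
  .f 15 true], 127), ([.l 2], 144), ([.l 3], 124), ([.l 4, .f 14 true, .f 15 true], 130), ([.l 5,
  .f 14 true, .f 15 true], 125), ([.l 6], 145), ([.e 4 false 14], 78)], [([.l 1], 140), ([.l 2, .f
  14 true, .f 169 true], 138), ([.l 3, .f 14 true, .f 169 true, .f 169 true], 139), ([.l 4], 124),
  ([.l 5, .f 14 true, .f 15 true], 126), ([.l 6, .f 15 true, .f 169 true], 144), ([.e 6 true 21],
  211)], [([.l 1, .f 14 true, .f 15 true], 135), ([.l 2, .f 14 true], 126), ([.l 3, .f 14 true, .f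
  169 true, .f 169 true], 128), ([.l 4], 125), ([.l 5, .f 14 true, .f 15 true], 137), ([.l 6, .f
  15 true, .f 169 true, .f 169 true], 135), ([.e 6 true 6, .f 16 true], 210)], [([.l 1, .f 14
  true, .f 15 true], 134), ([.l 2, .f 14 true], 129), ([.l 3], 126), ([.l 4], 129), ([.l 5, .f 14
  true, .f 15 true], 142), ([.l 6, .f 15 true, .f 169 true, .f 169 true], 134), ([.f 14 true, .e 6
  true 11, .f 16 true, .f 175 false, .f 166 true, .f 175 true, .f 16 true], 203)], [([.l 1, .f 14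
  true, .f 15 true], 144), ([.l 2], 127), ([.l 3], 131), ([.l 4, .f 15 true, .f 169 true], 143),
  ([.l 5, .f 15 true], 144), ([.l 6, .f 15 true, .f 169 true], 140), ([.e 4 false 25, .f 11 true],
  86)], [([.l 1, .f 14 true, .f 15 true], 142), ([.l 2, .f 15 true, .f 169 true], 143), ([.l 3, .f
  14 true, .f 15 true], 140), ([.l 4], 127), ([.l 5, .f 14 true, .f 15 true], 134), ([.l 6], 146),
  ([.f 14 true, .f 15 true, .e 6 true 19, .f 175 false, .f 166 true, .f 175 true, .f 16 true],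
  170)], [([.l 1, .f 14 true, .f 15 true], 145), ([.l 2, .f 15 true, .f 169 true], 133), ([.l 3],
  147), ([.l 4, .f 15 true, .f 169 true], 131), ([.l 5, .f 14 true, .f 169 true, .f 169 true],
  143), ([.l 6], 127), ([.f 15 true, .f 169 true, .e 6 true 31], 183)], [([.l 1, .f 14 true, .f
  169 true, .f 169 true], 130), ([.l 2, .f 14 true, .f 169 true, .f 15 true], 146), ([.l 3, .f 14
  true, .f 169 true, .f 169 true], 133), ([.l 4, .f 15 true, .f 169 true, .f 169 true], 142), ([.l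
  5], 128), ([.l 6, .f 14 true, .f 169 true, .f 169 true], 147), ([.f 14 true, .f 169 true, .f 169
  true, .e 6 true 7, .f 16 true], 190)]]

/-- the closing paths -/
def rows7 : List (List (List Step × Nat)) :=
  [[([.l 1], 133), ([.l 2, .f 15 true, .f 169 true], 145), ([.l 3, .f 14 true, .f 15 true], 137),
  ([.l 4, .f 14 true, .f 15 true], 140), ([.l 5], 129), ([.l 6, .f 14 true, .f 169 true], 136),
  ([.e 6 true 12, .f 16 true, .f 175 false, .f 166 true, .f 175 true, .f 16 true], 205)], [([.l 1,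
  .f 14 true, .f 169 true], 146), ([.l 2], 130), ([.l 3, .f 15 true, .f 169 true], 145), ([.l 4,
  .f 14 true, .f 15 true], 144), ([.l 5, .f 15 true], 141), ([.l 6, .f 15 true, .f 169 true],
  142), ([.e 6 true 13], 189)], [([.l 1, .f 14 true, .f 15 true], 137), ([.l 2, .f 14 true, .f 169
  true], 147), ([.l 3], 130), ([.l 4, .f 15 true, .f 169 true, .f 169 true], 139), ([.l 5, .f 14
  true, .f 15 true], 135), ([.l 6, .f 14 true, .f 169 true], 141), ([.e 6 true 14, .f 175 false,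
  .f 166 true, .f 175 true, .f 16 true], 201)], [([.l 1], 147), ([.l 2, .f 14 true, .f 169 true],
  137), ([.l 3], 146), ([.l 4, .f 14 true, .f 169 true], 136), ([.l 5, .f 14 true, .f 169 true, .f
  169 true], 138), ([.l 6], 130), ([.f 15 true, .f 169 true, .e 6 true 30, .f 175 false, .f 166
  true, .f 175 true, .f 16 true], 204)], [([.l 1, .f 14 true, .f 15 true], 136), ([.l 2], 132),
  ([.l 3, .f 14 true, .f 15 true], 144), ([.l 4, .f 14 true, .f 15 true], 141), ([.l 5, .f 15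
  true], 136), ([.l 6, .f 14 true, .f 169 true], 133), ([.e 4 false 26], 47)], [([.l 1, .f 14
  true, .f 15 true], 138), ([.l 2, .f 14 true, .f 169 true], 140), ([.l 3, .f 14 true, .f 169
  true], 141), ([.l 4, .f 14 true, .f 15 true], 145), ([.l 5, .f 15 true, .f 169 true, .f 169
  true], 147), ([.l 6], 132), ([.f 14 true, .f 169 true, .e 6 true 25, .f 175 false, .f 166 true,
  .f 175 true, .f 16 true], 218)], [([.l 1, .f 15 true, .f 169 true], 141), ([.l 2, .f 169 true],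
  139), ([.l 3], 143), ([.l 4, .f 14 true, .f 15 true], 147), ([.l 5, .f 14 true, .f 169 true, .f
  169 true], 146), ([.l 6], 137), ([.f 15 true, .f 169 true, .e 6 true 20], 178)], [([.l 1], 143),
  ([.l 2, .f 15 true, .f 169 true], 142), ([.l 3], 138), ([.l 4, .f 14 true, .f 15 true], 146),
  ([.l 5, .f 15 true, .f 169 true, .f 169 true], 145), ([.l 6, .f 14 true, .f 169 true, .f 169
  true], 139), ([.f 15 true, .f 169 true, .e 6 true 26, .f 175 false, .f 166 true, .f 175 true, .f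
  16 true], 184)], [([.l 1], 149), ([.l 2, .f 16 true], 148), ([.l 3], 150), ([.l 4], 151), ([.l
  5], 152), ([.l 6], 153), ([.e 5 false 0], 21)], [([.l 1], 148), ([.l 2, .f 16 true], 149), ([.l
  3], 154), ([.l 4], 155), ([.l 5], 156), ([.l 6], 157), ([.e 5 false 1, .f 12 true], 31)], [([.l
  1], 158), ([.l 2], 159), ([.l 3], 148), ([.l 4], 160), ([.l 5], 161), ([.l 6], 162), ([.e 5
  false 3, .f 12 true], 87)], [([.l 1], 163), ([.l 2, .f 16 true], 151), ([.l 3], 164), ([.l 4],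
  148), ([.l 5], 165), ([.l 6], 166), ([.e 7 true 0], 151)], [([.l 1], 156), ([.l 2], 167), ([.l
  3], 168), ([.l 4], 169), ([.l 5], 148), ([.l 6], 170), ([.e 5 false 4, .f 11 true], 59)], [([.l
  1], 157), ([.l 2, .f 16 true], 157), ([.l 3], 171), ([.l 4], 172), ([.l 5], 173), ([.l 6], 148),
  ([.f 175 false, .e 8 false 10, .f 11 true, .f 12 true], 82)], [([.l 1, .f 16 true], 159), ([.l
  2, .f 16 true], 158), ([.l 3], 149), ([.l 4], 174), ([.l 5], 175), ([.l 6], 176), ([.e 5 false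
  6], 67)], [([.l 1], 177), ([.l 2, .f 16 true], 155), ([.l 3], 178), ([.l 4], 149), ([.l 5],
  179), ([.l 6], 180), ([.f 16 true, .e 6 false 0], 123)], [([.l 1], 152), ([.l 2], 181), ([.l 3],
  182), ([.l 4], 183), ([.l 5], 149), ([.l 6], 184), ([.e 5 false 7], 35)], [([.l 1], 153), ([.l
  2, .f 16 true], 153), ([.l 3], 185), ([.l 4], 186), ([.l 5], 187), ([.l 6], 149), ([.f 175
  false, .e 8 false 3], 106)], [([.l 1], 150), ([.l 2, .f 16 true], 154), ([.l 3, .f 16 true],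
  159), ([.l 4], 188), ([.l 5], 182), ([.l 6], 186), ([.e 5 false 10, .f 11 true], 40)], [([.l 1,
  .f 16 true], 154), ([.l 2], 150), ([.l 3, .f 16 true], 158), ([.l 4], 189), ([.l 5, .f 16 true],
  168), ([.l 6, .f 16 true], 172), ([.e 5 false 11, .f 12 true], 56)]]

/-- the closing paths -/
def rows8 : List (List (List Step × Nat)) :=
  [[([.l 1], 178), ([.l 2], 189), ([.l 3], 190), ([.l 4], 150), ([.l 5], 183), ([.l 6], 191), ([.f
  16 true, .e 6 false 10, .f 15 true], 130)], [([.l 1], 182), ([.l 2], 192), ([.l 3], 175), ([.l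
  4, .f 16 true, .f 175 false, .f 166 true, .f 175 true, .f 16 true], 170), ([.l 5], 150), ([.l 6,
  .f 16 true, .f 175 false, .f 166 true, .f 175 true, .f 16 true], 161), ([.e 5 false 12, .f 11
  true], 66)], [([.l 1], 186), ([.l 2, .f 16 true], 176), ([.l 3], 193), ([.l 4], 176), ([.l 5, .f
  16 true, .f 175 false, .f 166 true, .f 175 true, .f 16 true], 186), ([.l 6], 150), ([.f 175
  false, .f 166 true, .f 175 true, .f 16 true, .f 175 false, .e 8 false 20, .f 11 true, .f 12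
  true], 81)], [([.l 1], 151), ([.l 2, .f 16 true], 163), ([.l 3], 188), ([.l 4], 177), ([.l 5],
  194), ([.l 6], 185), ([.e 7 true 1, .f 16 true], 163)], [([.l 1], 174), ([.l 2], 195), ([.l 3],
  151), ([.l 4], 190), ([.l 5], 196), ([.l 6], 197), ([.e 7 true 3, .f 16 true], 214)], [([.l 1],
  194), ([.l 2], 198), ([.l 3], 199), ([.l 4], 182), ([.l 5], 151), ([.l 6, .f 16 true, .f 175
  false, .f 166 true, .f 175 true, .f 16 true], 168), ([.e 7 true 4, .f 16 true], 174)], [([.l 1],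
  185), ([.l 2, .f 16 true], 185), ([.l 3], 180), ([.l 4], 193), ([.l 5, .f 16 true, .f 175 false,
  .f 166 true, .f 175 true, .f 16 true], 176), ([.l 6], 151), ([.f 175 false, .e 8 false 1], 49)],
  [([.l 1], 181), ([.l 2], 152), ([.l 3], 192), ([.l 4], 200), ([.l 5, .f 16 true], 167), ([.l 6],
  201), ([.e 5 false 13, .f 11 true, .f 12 true], 43)], [([.l 1], 175), ([.l 2], 202), ([.l 3],
  152), ([.l 4], 179), ([.l 5, .f 16 true], 159), ([.l 6, .f 16 true, .f 175 false, .f 166 true,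
  .f 175 true, .f 16 true], 165), ([.e 5 false 14, .f 11 true, .f 12 true], 88)], [([.l 1], 196),
  ([.l 2], 200), ([.l 3], 194), ([.l 4], 152), ([.l 5], 174), ([.l 6], 203), ([.e 7 true 21, .f 16
  true], 200)], [([.l 1], 184), ([.l 2], 204), ([.l 3], 205), ([.l 4, .f 16 true, .f 175 false, .f
  166 true, .f 175 true, .f 16 true], 161), ([.l 5, .f 16 true, .f 175 false, .f 166 true, .f 175
  true], 189), ([.l 6], 152), ([.f 16 true, .f 175 false, .f 166 true, .f 175 true, .e 6 false 19,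
  .f 14 true, .f 15 true], 137)], [([.l 1], 180), ([.l 2, .f 16 true], 180), ([.l 3], 153), ([.l
  4], 191), ([.l 5, .f 16 true, .f 175 false, .f 166 true, .f 175 true, .f 16 true], 197), ([.l
  6], 177), ([.f 175 false, .e 8 false 17, .f 11 true, .f 12 true], 54)], [([.l 1], 176), ([.l 2,
  .f 16 true], 186), ([.l 3], 197), ([.l 4], 153), ([.l 5, .f 16 true, .f 175 false, .f 166 true,
  .f 175 true, .f 16 true], 185), ([.l 6, .f 16 true], 159), ([.f 16 true, .f 175 false, .f 166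
  true, .f 175 true, .f 16 true, .f 175 false, .e 8 false 4], 80)], [([.l 1], 187), ([.l 2, .f 16
  true, .f 175 false, .f 166 true, .f 175 true], 191), ([.l 3, .f 16 true, .f 175 false, .f 166
  true, .f 175 true, .f 16 true], 176), ([.l 4, .f 16 true, .f 175 false, .f 166 true, .f 175
  true, .f 16 true], 180), ([.l 5], 153), ([.l 6, .f 16 true, .f 175 false, .f 166 true, .f 175
  true, .f 16 true], 190), ([.f 175 false, .e 8 false 21], 117)], [([.l 1], 164), ([.l 2, .f 16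
  true], 188), ([.l 3, .f 16 true], 195), ([.l 4], 154), ([.l 5], 169), ([.l 6], 206), ([.e 7 true
  10, .f 16 true], 165)], [([.l 1], 168), ([.l 2], 207), ([.l 3], 161), ([.l 4], 208), ([.l 5],
  154), ([.l 6, .f 16 true, .f 175 false, .f 166 true, .f 175 true, .f 16 true], 194), ([.e 5
  false 19, .f 11 true, .f 12 true], 72)], [([.l 1], 172), ([.l 2, .f 16 true], 162), ([.l 3, .f
  16 true, .f 175 false, .f 166 true, .f 175 true, .f 16 true], 173), ([.l 4], 162), ([.l 5, .f 16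
  true, .f 175 false, .f 166 true, .f 175 true, .f 16 true], 166), ([.l 6], 154), ([.f 16 true, .f
  175 false, .f 166 true, .f 175 true, .f 16 true, .f 175 false, .e 8 false 7], 52)], [([.l 1],
  155), ([.l 2, .f 16 true], 177), ([.l 3, .f 16 true], 189), ([.l 4], 163), ([.l 5, .f 16 true,
  .f 175 false, .f 166 true, .f 175 true, .f 16 true], 203), ([.l 6], 171), ([.f 16 true, .e 6
  false 1, .f 14 true, .f 15 true, .f 169 true, .f 169 true], 128)], [([.l 1], 160), ([.l 2, .f 16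
  true], 190), ([.l 3], 155), ([.l 4, .f 16 true], 195), ([.l 5, .f 16 true, .f 175 false, .f 166
  true, .f 175 true, .f 16 true], 205), ([.l 6], 209), ([.f 16 true, .e 6 false 3, .f 14 true, .f
  15 true, .f 169 true], 146)], [([.l 1, .f 16 true, .f 175 false, .f 166 true, .f 175 true, .f 16
  true], 203), ([.l 2], 210), ([.l 3, .f 16 true, .f 175 false, .f 166 true, .f 175 true, .f 16
  true], 184), ([.l 4], 168), ([.l 5], 155), ([.l 6, .f 16 true, .f 175 false, .f 166 true, .f 175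
  true, .f 16 true], 196), ([.f 16 true, .e 6 false 4, .f 14 true], 126)]]

/-- the closing paths -/
def rows9 : List (List (List Step × Nat)) :=
  [[([.l 1], 171), ([.l 2, .f 16 true], 171), ([.l 3], 166), ([.l 4, .f 16 true, .f 175 false, .f
  166 true, .f 175 true, .f 16 true], 173), ([.l 5, .f 16 true, .f 175 false, .f 166 true, .f 175
  true, .f 16 true], 206), ([.l 6], 155), ([.f 175 false, .e 8 false 6], 85)], [([.l 1], 167),
  ([.l 2], 156), ([.l 3], 207), ([.l 4], 211), ([.l 5, .f 16 true], 181), ([.l 6], 204), ([.e 5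
  false 20, .f 11 true], 39)], [([.l 1], 161), ([.l 2], 212), ([.l 3], 156), ([.l 4], 165), ([.l
  5], 158), ([.l 6, .f 16 true, .f 175 false, .f 166 true, .f 175 true, .f 16 true], 182), ([.e 5
  false 21, .f 12 true], 96)], [([.l 1, .f 16 true, .f 175 false, .f 166 true, .f 175 true, .f 16
  true], 205), ([.l 2], 211), ([.l 3, .f 16 true, .f 175 false, .f 166 true, .f 175 true, .f 16
  true], 203), ([.l 4], 156), ([.l 5], 160), ([.l 6, .f 16 true, .f 175 false, .f 166 true, .f 175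
  true, .f 16 true], 183), ([.f 16 true, .e 6 false 21, .f 14 true, .f 15 true, .f 169 true],
  138)], [([.l 1], 170), ([.l 2], 201), ([.l 3, .f 16 true, .f 175 false, .f 166 true, .f 175
  true, .f 16 true], 179), ([.l 4, .f 16 true, .f 175 false, .f 166 true, .f 175 true, .f 16
  true], 194), ([.l 5, .f 16 true, .f 175 false, .f 166 true, .f 175 true, .f 16 true], 190), ([.l
  6], 156), ([.f 16 true, .f 175 false, .f 166 true, .f 175 true, .e 6 false 14, .f 14 true, .f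
  169 true], 147)], [([.l 1], 166), ([.l 2, .f 16 true], 166), ([.l 3], 157), ([.l 4], 206), ([.l
  5, .f 16 true, .f 175 false, .f 166 true, .f 175 true, .f 16 true], 172), ([.l 6], 163), ([.f
  175 false, .e 8 false 0], 29)], [([.l 1], 162), ([.l 2, .f 16 true], 172), ([.l 3], 209), ([.l
  4], 157), ([.l 5, .f 16 true, .f 175 false, .f 166 true, .f 175 true, .f 16 true], 162), ([.l
  6], 158), ([.f 175 false, .f 166 true, .f 175 true, .f 16 true, .f 175 false, .e 8 false 13, .f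
  11 true, .f 12 true], 53)], [([.l 1], 173), ([.l 2, .f 16 true, .f 175 false, .f 166 true, .f
  175 true], 209), ([.l 3, .f 16 true, .f 175 false, .f 166 true, .f 175 true, .f 16 true], 206),
  ([.l 4, .f 16 true, .f 175 false, .f 166 true, .f 175 true, .f 16 true], 209), ([.l 5], 157),
  ([.l 6, .f 16 true, .f 175 false, .f 166 true, .f 175 true], 189), ([.f 175 false, .e 8 false
  12, .f 11 true, .f 12 true], 105)], [([.l 1, .f 16 true], 195), ([.l 2, .f 16 true], 174), ([.l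
  3], 163), ([.l 4], 158), ([.l 5], 208), ([.l 6], 213), ([.e 7 true 6], 198)], [([.l 1, .f 16
  true], 190), ([.l 2], 160), ([.l 3, .f 16 true], 177), ([.l 4], 159), ([.l 5, .f 175 false, .f
  166 true, .f 175 true, .f 16 true], 170), ([.l 6, .f 175 false, .f 166 true, .f 175 true, .f 16
  true], 187), ([.e 6 false 6], 141)], [([.l 1, .f 16 true], 189), ([.l 2, .f 16 true], 178), ([.l
  3], 160), ([.l 4], 164), ([.l 5, .f 16 true, .f 175 false, .f 166 true, .f 175 true, .f 16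
  true], 184), ([.l 6, .f 16 true, .f 175 false, .f 166 true, .f 175 true, .f 16 true], 173), ([.e
  6 false 11, .f 14 true, .f 15 true, .f 169 true, .f 169 true], 139)], [([.l 1], 209), ([.l 2, .f
  175 false, .f 166 true, .f 175 true, .f 16 true], 173), ([.l 3], 213), ([.l 4], 171), ([.l 5, .f
  16 true, .f 175 false, .f 166 true, .f 175 true, .f 16 true], 209), ([.l 6], 160), ([.f 175
  false, .f 166 true, .f 175 true, .f 16 true, .f 175 false, .e 8 false 31], 104)], [([.l 1],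
  212), ([.l 2], 161), ([.l 3], 167), ([.l 4, .f 16 true, .f 175 false, .f 166 true, .f 175 true,
  .f 16 true], 204), ([.l 5, .f 16 true], 202), ([.l 6, .f 16 true, .f 175 false, .f 166 true, .f
  175 true, .f 16 true], 212), ([.e 5 false 25, .f 11 true], 95)], [([.l 1], 213), ([.l 2, .f 16
  true], 206), ([.l 3], 162), ([.l 4], 166), ([.l 5, .f 16 true, .f 175 false, .f 166 true, .f 175
  true, .f 16 true], 213), ([.l 6, .f 16 true], 195), ([.f 175 false, .f 166 true, .f 175 true, .f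
  16 true, .f 175 false, .e 8 false 30, .f 11 true, .f 12 true], 109)], [([.l 1], 165), ([.l 2],
  214), ([.l 3], 169), ([.l 4, .f 16 true, .f 175 false, .f 166 true, .f 175 true, .f 16 true],
  184), ([.l 5], 163), ([.l 6, .f 16 true, .f 175 false, .f 166 true, .f 175 true, .f 16 true],
  175), ([.e 7 true 7, .f 16 true], 195)], [([.l 1, .f 16 true], 188), ([.l 2], 164), ([.l 3, .f
  16 true], 174), ([.l 4, .f 16 true], 178), ([.l 5, .f 16 true], 199), ([.l 6, .f 16 true], 193),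
  ([.e 7 true 11, .f 16 true], 194)], [([.l 1], 169), ([.l 2], 215), ([.l 3], 208), ([.l 4, .f 16
  true, .f 175 false, .f 166 true, .f 175 true, .f 16 true], 205), ([.l 5], 164), ([.l 6, .f 16
  true, .f 175 false, .f 166 true, .f 175 true, .f 16 true], 179), ([.e 7 true 12, .f 16 true],
  196)], [([.l 1], 206), ([.l 2, .f 16 true], 213), ([.l 3], 172), ([.l 4], 213), ([.l 5, .f 16
  true, .f 175 false, .f 166 true, .f 175 true, .f 16 true], 171), ([.l 6], 164), ([.f 16 true, .f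
  175 false, .f 166 true, .f 175 true, .f 16 true, .f 175 false, .e 8 false 14], 108)], [([.l 1],
  214), ([.l 2], 165), ([.l 3], 215), ([.l 4], 212), ([.l 5, .f 16 true], 198), ([.l 6, .f 16
  true, .f 175 false, .f 166 true, .f 175 true, .f 16 true], 207), ([.e 7 true 13], 188)], [([.l
  1], 208), ([.l 2], 216), ([.l 3], 165), ([.l 4, .f 16 true, .f 175 false, .f 166 true, .f 175
  true, .f 16 true], 203), ([.l 5, .f 16 true], 195), ([.l 6, .f 16 true, .f 175 false, .f 166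
  true, .f 175 true, .f 16 true], 199), ([.e 7 true 14], 216)]]

/-- the closing paths -/
def rows10 : List (List (List Step × Nat)) :=
  [[([.l 1], 215), ([.l 2], 169), ([.l 3], 216), ([.l 4], 167), ([.l 5], 217), ([.l 6, .f 16 true,
  .f 175 false, .f 166 true, .f 175 true, .f 16 true], 210), ([.e 7 true 31, .f 16 true], 169)],
  [([.l 1], 204), ([.l 2], 184), ([.l 3, .f 16 true, .f 175 false, .f 166 true, .f 175 true, .f 16
  true], 211), ([.l 4, .f 16 true, .f 175 false, .f 166 true, .f 175 true, .f 16 true], 214), ([.l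
  5], 218), ([.l 6], 167), ([.f 16 true, .f 175 false, .f 166 true, .f 175 true, .e 6 false 26],
  142)], [([.l 1], 207), ([.l 2], 168), ([.l 3], 212), ([.l 4], 210), ([.l 5, .f 16 true], 192),
  ([.l 6, .f 16 true, .f 175 false, .f 166 true, .f 175 true, .f 16 true], 214), ([.e 5 false 26,
  .f 11 true, .f 12 true], 58)], [([.l 1, .f 16 true, .f 175 false, .f 166 true, .f 175 true, .f
  16 true], 179), ([.l 2], 219), ([.l 3, .f 16 true, .f 175 false, .f 166 true, .f 175 true, .f 16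
  true], 183), ([.l 4, .f 16 true, .f 175 false, .f 166 true, .f 175 true, .f 16 true], 199), ([.l
  5, .f 16 true, .f 175 false, .f 166 true, .f 175 true, .f 16 true], 177), ([.l 6], 169), ([.f 16
  true, .f 175 false, .f 166 true, .f 175 true, .e 6 false 7, .f 14 true, .f 15 true], 135)],
  [([.l 1], 201), ([.l 2], 170), ([.l 3], 219), ([.l 4, .f 16 true, .f 175 false, .f 166 true, .f
  175 true, .f 16 true], 192), ([.l 5, .f 16 true, .f 175 false, .f 166 true, .f 175 true], 211),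
  ([.l 6], 181), ([.f 16 true, .f 175 false, .f 166 true, .f 175 true, .e 6 false 30, .f 14 true,
  .f 169 true], 143)], [([.l 1, .f 16 true, .f 175 false, .f 166 true, .f 175 true, .f 16 true],
  183), ([.l 2, .f 175 false, .f 166 true, .f 175 true], 218), ([.l 3], 170), ([.l 4, .f 16 true,
  .f 175 false, .f 166 true, .f 175 true, .f 16 true], 196), ([.l 5, .f 16 true, .f 175 false, .f
  166 true, .f 175 true, .f 16 true], 178), ([.l 6, .f 16 true, .f 175 false, .f 166 true, .f 175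
  true, .f 16 true], 205), ([.f 16 true, .f 175 false, .f 166 true, .f 175 true, .e 6 false 12, .f
  15 true], 140)], [([.l 1], 197), ([.l 2, .f 16 true], 193), ([.l 3, .f 16 true, .f 175 false, .f
  166 true, .f 175 true, .f 16 true], 187), ([.l 4], 185), ([.l 5, .f 16 true, .f 175 false, .f
  166 true, .f 175 true, .f 16 true], 180), ([.l 6], 174), ([.f 16 true, .f 175 false, .f 166
  true, .f 175 true, .f 16 true, .f 175 false, .e 8 false 19, .f 11 true, .f 12 true], 84)], [([.l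
  1], 202), ([.l 2], 175), ([.l 3], 181), ([.l 4, .f 16 true], 217), ([.l 5, .f 16 true], 212),
  ([.l 6, .f 16 true, .f 175 false, .f 166 true, .f 175 true, .f 16 true], 198), ([.e 5 false 30,
  .f 11 true, .f 12 true], 99)], [([.l 1], 199), ([.l 2, .f 16 true], 217), ([.l 3], 196), ([.l
  4], 175), ([.l 5], 188), ([.l 6, .f 16 true, .f 175 false, .f 166 true, .f 175 true, .f 16
  true], 208), ([.e 7 true 19], 208)], [([.l 1], 191), ([.l 2, .f 175 false, .f 166 true, .f 175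
  true, .f 16 true], 187), ([.l 3], 186), ([.l 4, .f 16 true, .f 175 false, .f 166 true, .f 175
  true, .f 16 true], 187), ([.l 5, .f 16 true, .f 175 false, .f 166 true, .f 175 true, .f 16
  true], 191), ([.l 6], 178), ([.f 175 false, .f 166 true, .f 175 true, .f 16 true, .f 175 false,
  .e 8 false 25, .f 11 true, .f 12 true], 118)], [([.l 1, .f 16 true, .f 175 false, .f 166 true,
  .f 175 true, .f 16 true], 219), ([.l 2], 179), ([.l 3, .f 175 false, .f 166 true, .f 175 true,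
  .f 16 true], 218), ([.l 4], 202), ([.l 5, .f 16 true], 210), ([.l 6, .f 16 true, .f 175 false,
  .f 166 true, .f 175 true, .f 16 true], 200), ([.f 16 true, .e 6 false 13], 134)], [([.l 1, .f
  175 false, .f 166 true, .f 175 true, .f 16 true], 218), ([.l 2], 183), ([.l 3, .f 16 true, .f
  175 false, .f 166 true, .f 175 true, .f 16 true], 201), ([.l 4], 181), ([.l 5, .f 175 false, .f
  166 true, .f 175 true, .f 16 true], 204), ([.l 6, .f 175 false, .f 166 true, .f 175 true], 218),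
  ([.f 16 true, .e 6 false 31, .f 15 true], 133)], [([.l 1], 192), ([.l 2], 182), ([.l 3], 202),
  ([.l 4], 198), ([.l 5, .f 16 true], 207), ([.l 6, .f 16 true, .f 175 false, .f 166 true, .f 175
  true, .f 16 true], 192), ([.e 5 false 31, .f 12 true], 68)], [([.l 1], 193), ([.l 2, .f 16
  true], 197), ([.l 3], 191), ([.l 4], 197), ([.l 5, .f 16 true, .f 175 false, .f 166 true, .f 175
  true, .f 16 true], 193), ([.l 6], 188), ([.f 175 false, .f 166 true, .f 175 true, .f 16 true, .f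
  175 false, .e 8 false 26], 83)], [([.l 1], 198), ([.l 2], 194), ([.l 3, .f 16 true], 217), ([.l
  4, .f 16 true, .f 175 false, .f 166 true, .f 175 true, .f 16 true], 201), ([.l 5, .f 16 true],
  214), ([.l 6, .f 16 true, .f 175 false, .f 166 true, .f 175 true, .f 16 true], 202), ([.e 7 true
  20, .f 16 true], 164)], [([.l 1], 200), ([.l 2], 196), ([.l 3], 198), ([.l 4, .f 175 false, .f
  166 true, .f 175 true, .f 16 true], 218), ([.l 5, .f 16 true], 216), ([.l 6], 219), ([.e 7 true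
  25, .f 16 true], 215)], [([.l 1, .f 16 true], 217), ([.l 2], 199), ([.l 3], 200), ([.l 4, .f 16
  true, .f 175 false, .f 166 true, .f 175 true, .f 16 true], 219), ([.l 5, .f 16 true], 215), ([.l
  6, .f 16 true, .f 175 false, .f 166 true, .f 175 true], 217), ([.e 7 true 26], 199)], [([.l 1,
  .f 16 true], 216), ([.l 2, .f 16 true], 208), ([.l 3, .f 16 true], 214), ([.l 4, .f 16 true],
  207), ([.l 5], 200), ([.l 6, .f 175 false, .f 166 true, .f 175 true, .f 16 true], 216), ([.f 16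
  true, .e 7 true 30, .f 16 true], 217)], [([.l 1, .f 16 true, .f 175 false, .f 166 true, .f 175
  true], 211), ([.l 2, .f 175 false, .f 166 true, .f 175 true], 205), ([.l 3, .f 16 true, .f 175
  false, .f 166 true, .f 175 true], 210), ([.l 4, .f 16 true, .f 175 false, .f 166 true, .f 175
  true], 215), ([.l 5], 201), ([.l 6, .f 175 false, .f 166 true, .f 175 true], 211), ([.f 16 true,
  .f 175 false, .f 166 true, .f 175 true, .f 16 true, .e 6 false 25, .f 169 true], 145)], [([.l 1,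
  .f 16 true, .f 175 false, .f 166 true, .f 175 true, .f 16 true], 210), ([.l 2], 203), ([.l 3],
  204), ([.l 4, .f 16 true, .f 175 false, .f 166 true, .f 175 true, .f 16 true], 216), ([.l 5, .f
  175 false, .f 166 true, .f 175 true], 219), ([.l 6], 215), ([.f 16 true, .f 175 false, .f 166
  true, .f 175 true, .e 6 false 20, .f 15 true], 129)]]

/-- the certificate -/
def cert : Table where
  defs :=
    [(0, 0), (1, 6), (2, 6), (2, 20), (2, 28), (2, 72), (3, 6), (3, 20), (3, 28), (3, 72), (4, 6),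
    (4, 20), (4, 28), (4, 72), (4, 88), (5, 6), (5, 20), (5, 28), (5, 31), (5, 72), (5, 88), (6,
    6), (6, 20), (6, 28), (6, 31), (6, 62), (6, 72), (6, 88), (6, 139), (6, 152), (7, 6), (7, 72),
    (8, 28), (8, 72), (8, 88), (9, 28), (9, 72), (9, 88), (10, 6), (10, 20), (10, 28), (10, 31),
    (10, 62), (10, 72), (10, 88), (10, 139), (10, 152), (11, 20), (11, 28), (11, 72), (11, 139),
    (12, 6), (12, 20), (12, 28), (12, 31), (12, 62), (12, 72), (12, 88), (12, 139), (12, 152),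
    (13, 6), (13, 20), (13, 28), (13, 31), (13, 62), (13, 72), (13, 88), (13, 139), (13, 152),
    (14, 6), (14, 20), (14, 28), (14, 31), (14, 62), (14, 72), (14, 88), (14, 139), (14, 152),
    (15, 6), (15, 20), (15, 28), (15, 31), (15, 62), (15, 88), (15, 139), (15, 152), (16, 72)]
  items := items0 ++ items1 ++ items2 ++ items3 ++ items4 ++ items5 ++ items6 ++ items7 ++ items8 ++ items9 ++ items10
  reps :=
    [(0, 0), (1, 0), (1, 4), (1, 6), (1, 21), (1, 24), (1, 30), (1, 32), (1, 84), (1, 96), (1,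
    98), (1, 187), (1, 207), (2, 0), (2, 3), (2, 4), (2, 5), (2, 6), (2, 16), (2, 18), (2, 19),
    (2, 20), (2, 21), (2, 22), (2, 23), (2, 24), (2, 25), (2, 26), (2, 27), (2, 28), (2, 30), (2,
    31), (2, 32), (2, 66), (2, 68), (2, 69), (2, 70), (2, 71), (2, 72), (2, 74), (2, 75), (2, 76),
    (2, 78), (2, 79), (2, 80), (2, 81), (2, 82), (2, 84), (2, 85), (2, 86), (2, 87), (2, 88), (2,
    89), (2, 91), (2, 92), (2, 96), (2, 97), (2, 98), (2, 99), (2, 162), (2, 165), (2, 166), (2,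
    167), (2, 168), (2, 169), (2, 170), (2, 173), (2, 174), (2, 175), (2, 176), (2, 177), (2,
    178), (2, 180), (2, 181), (2, 182), (2, 183), (2, 184), (2, 185), (2, 187), (2, 188), (2,
    190), (2, 191), (2, 193), (2, 197), (2, 200), (2, 201), (2, 207), (2, 209), (2, 211), (2,
    288), (2, 289), (2, 290), (2, 291), (2, 292), (2, 293), (2, 296), (2, 298), (2, 299), (2,
    300), (2, 301), (2, 303), (2, 306), (2, 307), (2, 309), (2, 311), (2, 312), (2, 314), (2,
    315), (2, 319), (2, 323), (2, 384), (2, 385), (2, 386), (2, 387), (2, 389), (2, 394), (2,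
    395), (2, 396), (2, 398), (2, 400), (2, 428), (3, 0), (3, 3), (3, 4), (3, 5), (3, 16), (3,
    18), (3, 19), (3, 20), (3, 22), (3, 23), (3, 25), (3, 26), (3, 27), (3, 66), (3, 68), (3, 70),
    (3, 71), (3, 72), (3, 75), (3, 78), (3, 80), (3, 81), (3, 82), (3, 87), (3, 88), (3, 167), (3,
    169), (4, 0), (4, 1), (4, 3), (4, 4), (4, 5), (4, 6), (4, 8), (4, 9), (4, 10), (4, 11), (4,
    16), (4, 17), (4, 18), (4, 19), (4, 20), (4, 21), (4, 22), (4, 23), (4, 24), (4, 25), (4, 26),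
    (4, 27), (4, 28), (4, 30), (4, 31), (4, 32), (4, 38), (4, 39), (4, 40), (4, 41), (4, 42), (4,
    43), (4, 44), (4, 45), (4, 46), (4, 47), (4, 48), (4, 49), (4, 50), (4, 51), (4, 66), (4, 67),
    (4, 68), (4, 69), (4, 70), (4, 74), (4, 76), (4, 77), (4, 78), (4, 79), (4, 80), (4, 81), (4,
    85), (4, 86), (4, 87), (4, 89), (4, 90), (4, 91), (4, 113), (4, 114), (4, 115), (4, 122), (4,
    123), (4, 127), (4, 128), (4, 162), (4, 177), (4, 178), (4, 182), (4, 189), (4, 193), (4,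
    196)]
  rows := rows0 ++ rows1 ++ rows2 ++ rows3 ++ rows4 ++ rows5 ++ rows6 ++ rows7 ++ rows8 ++ rows9 ++ rows10

end CfsgLib.ThreeAmalgam.Bound.Twelve
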