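import Mathlib.Init

/-!
The shape of the certificates of the enumerations over the first group: a position is a node and
an element of the first group.
-/

namespace CfsgLib.ThreeAmalgam.Bound

/-- a step of a path -/
inductive Step
  /-- a fact, forwards or backwards -/
  | f (i : Nat) (fw : Bool)
  /-- an edge of the seventh letter with an element of its domain -/
  | e (i : Nat) (fw : Bool) (u : Nat)
  /-- multiplication by an element of the first group -/
  | l (m : Nat)

/-- a deduction -/
inductive Item
  /-- an element of the first group fixes the first node -/
  | sub (a : Nat)
  /-- the edge defining a node -/
  | defn (k : Nat)
  /-- two paths with equal values -/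
  | tie (start : Nat × Nat) (p q : List Step) (rel : Option Nat)
  /-- a relator with one missing edge -/
  | edge (start : Nat × Nat) (p q : List Step) (rel : Nat)

/-- a certificate -/
structure Table where
  /-- the parents of the nodes -/
  defs : List (Nat × Nat)
  /-- the deductions -/
  items : List Item
  /-- the cosets -/
  reps : List (Nat × Nat)
  /-- for each coset and letter a path and the coset reached -/
  rows : List (List (List Step × Nat))

end CfsgLib.ThreeAmalgam.Bound
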