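import Cfsg.Agent.Lib.ThreeAmalgam.Bound.Plane
import Cfsg.Agent.Lib.ThreeAmalgam.Bound.Kinds

/-!
# The checker of the enumerations over the first group

A position `(k, m)` stands for the coset of the element `W k * vA m`, where `W k` is the value of
the node `k`. A token is an element of the first group or the seventh letter.
-/

set_option autoImplicit false

namespace CfsgLib.ThreeAmalgam.Bound

/-- a token: an element of the first group, or the seventh letter -/
abbrev Tok := Option Nat

/-- the proven facts and edges -/
structure State where
  /-- `(a, s, b)`: the position `(a, s)` is equal to `(b, 0)` -/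
  facts : List (Nat × Nat × Nat)
  /-- the seventh letter carries the first position to the second -/
  seeds : List ((Nat × Nat) × (Nat × Nat))

/-- the relators: of the second group, the extra one, the square of the seventh letter -/
noncomputable def relTab (key : List (Fin 7)) : List (List Tok) :=
  [brelTab.map fun o => o.map Prod.fst,
    key.map fun k => bif Nat.beq k.1 6 then none else some (walkA 0 [k.1]), [none, none]]

/-- one step -/
noncomputable def move (st : State) (pos : Nat × Nat) : Step → Option (Nat × Nat)
  | .f i fw =>
    match st.facts[i]? with
    | some (a, s, b) =>
      bif fw then (bif Nat.beq pos.1 a then some (b, mulA (invA s) pos.2) else none)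
      else (bif Nat.beq pos.1 b then some (a, mulA s pos.2) else none)
    | none => none
  | .e i fw u =>
    match st.seeds[i]?, domTab[u]? with
    | some (p, q), some (v, w, _, _) =>
      bif fw then
        (bif Nat.beq pos.1 p.1 && Nat.beq pos.2 (mulA p.2 v) then some (q.1, mulA q.2 w) else none)
      else
        (bif Nat.beq pos.1 q.1 && Nat.beq pos.2 (mulA q.2 v) then some (p.1, mulA p.2 w) else none)
    | _, _ => none
  | .l m => bif Nat.blt m 432 then some (pos.1, mulA pos.2 m) else none

/-- a path -/
noncomputable def runPath (st : State) : Nat × Nat → List Step → Option (Nat × Nat)
  | pos, [] => some pos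
  | pos, s :: l => match move st pos s with
    | some pos' => runPath st pos' l
    | none => none

/-- the tokens of a path -/
def reads : List Step → List Tok
  | [] => []
  | .f _ _ :: l => reads l
  | .e _ _ _ :: l => none :: reads l
  | .l m :: l => some m :: reads l

/-- the inverse of a list of tokens -/
noncomputable def invToks (l : List Tok) : List Tok := l.reverse.map fun o => o.map invA

/-- comparison of tokens -/
def tokEq : List Tok → List Tok → Bool
  | [], [] => true
  | none :: a, none :: b => tokEq a b
  | some m :: a, some k :: b => Nat.beq m k && tokEq a b
  | _, _ => false

/-- the two paths have equal values by a relator or literally -/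
noncomputable def relOK (RS : List (List Tok)) : Option Nat → List Step → List Step → Bool
  | none, p, q => tokEq (reads p) (reads q)
  | some r, p, q => match RS[r]? with
    | some R => tokEq (reads p ++ invToks (reads q)) R
    | none => false

/-- one deduction -/
noncomputable def apply (RS : List (List Tok)) (defs : List (Nat × Nat)) (st : State) :
    Item → Option State
  | .sub a =>
    bif Nat.blt a 432 then some ⟨st.facts ++ [(0, a, 0)], st.seeds⟩ else none
  | .defn k =>
    match k with
    | 0 => none
    | j + 1 => match defs[j]? with
      | some p => bif Nat.blt p.2 432 && Nat.ble p.1 j then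
          some ⟨st.facts, st.seeds ++ [(p, (j + 1, 0))]⟩ else none
      | none => none
  | .tie start p q rel =>
    bif Nat.blt start.2 432 then
      match runPath st start p, runPath st start q with
      | some b1, some b2 =>
        bif relOK RS rel p q then
          some ⟨st.facts ++ [(b1.1, mulA b1.2 (invA b2.2), b2.1)], st.seeds⟩ else none
      | _, _ => none
    else none
  | .edge start p q r =>
    bif Nat.blt start.2 432 then
      match runPath st start p, runPath st start q, RS[r]? with
      | some b1, some b2, some R =>
        bif tokEq (reads p ++ none :: invToks (reads q)) R then
          some ⟨st.facts ++ [(0, 0, 0)], st.seeds ++ [(b1, b2)]⟩ else none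
      | _, _, _ => none
    else none

/-- all deductions -/
noncomputable def applyAll (RS : List (List Tok)) (defs : List (Nat × Nat)) :
    State → List Item → Option State
  | st, [] => some st
  | st, i :: l => match apply RS defs st i with
    | some st' => applyAll RS defs st' l
    | none => none

/-- the token of a letter -/
noncomputable def letTok (k : Nat) : Tok := bif Nat.beq k 6 then none else some (walkA 0 [k])

/-- the closing paths of a coset -/
noncomputable def rowOK (st : State) (reps : List (Nat × Nat)) (p : Nat × Nat) :
    Nat → List (List Step × Nat) → Bool
  | k, [] => Nat.beq k 7
  | k, (path, j) :: l =>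
    (match runPath st p path, reps[j]? with
      | some q, some r => Nat.beq q.1 r.1 && Nat.beq q.2 r.2
      | _, _ => false) && tokEq (reads path) [letTok k] && rowOK st reps p (k + 1) l

/-- all rows -/
noncomputable def rowsOK (st : State) (reps : List (Nat × Nat)) :
    List (Nat × Nat) → List (List (List Step × Nat)) → Bool
  | [], [] => true
  | p :: ps, r :: rs => Nat.blt p.2 432 && rowOK st reps p 0 r && rowsOK st reps ps rs
  | _, _ => false

/-- the parents of the nodes come earlier -/
def defsOK : Nat → List (Nat × Nat) → Bool
  | _, [] => true
  | j, p :: l => Nat.ble p.1 j && Nat.blt p.2 432 && defsOK (j + 1) l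

/-- the whole certificate -/
noncomputable def checkTable (key : List (Fin 7)) (T : Table) : Bool :=
  defsOK 0 T.defs &&
  (match T.reps with
    | p :: _ => Nat.beq p.1 0 && Nat.beq p.2 0
    | [] => false) &&
  match applyAll (relTab key) T.defs ⟨[], []⟩ T.items with
  | some st => rowsOK st T.reps T.reps T.rows
  | none => false

end CfsgLib.ThreeAmalgam.Bound
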