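import Mathlib.Init

/-!
Data of the coset bounds: words of the elements of the plane groups and the elements whose
conjugates under the seventh letter stay in the first group (generated data).
-/

namespace CfsgLib.ThreeAmalgam.Bound

/-- words of the elements of the first group, in chunks of eighteen -/
def wordTab : List (List (List Nat)) :=
  [[[], [0], [1], [2], [3], [4], [5], [0, 1], [0, 2], [0, 3], [0, 4], [0, 5], [1, 2], [1, 3], [1,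
  4], [1, 5], [2, 0], [2, 1]], [[2, 3], [2, 4], [2, 5], [3, 0], [3, 2], [3, 4], [3, 5], [4, 1],
  [4, 2], [4, 3], [4, 5], [5, 1], [5, 2], [5, 3], [5, 4], [0, 1, 2], [0, 1, 3], [0, 1, 4]], [[0,
  2, 0], [0, 2, 1], [0, 2, 3], [0, 2, 4], [0, 2, 5], [0, 3, 0], [0, 3, 2], [0, 3, 4], [0, 3, 5],
  [0, 4, 1], [0, 4, 2], [0, 4, 3], [0, 4, 5], [0, 5, 2], [0, 5, 3], [0, 5, 4], [1, 2, 3], [1, 2,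
  4]], [[1, 2, 5], [1, 3, 0], [1, 3, 2], [1, 3, 4], [1, 3, 5], [1, 4, 1], [1, 4, 2], [1, 4, 3],
  [1, 4, 5], [1, 5, 2], [1, 5, 3], [1, 5, 4], [2, 0, 3], [2, 1, 3], [2, 3, 2], [2, 3, 5], [2, 4,
  1], [2, 4, 3]], [[2, 4, 5], [2, 5, 1], [2, 5, 2], [2, 5, 4], [3, 0, 4], [3, 2, 1], [3, 2, 4],
  [3, 2, 5], [3, 4, 1], [3, 4, 2], [3, 4, 5], [3, 5, 1], [3, 5, 4], [4, 1, 3], [4, 1, 5], [4, 2,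
  1], [4, 2, 5], [4, 3, 5]], [[4, 5, 1], [4, 5, 2], [4, 5, 4], [5, 1, 3], [5, 1, 4], [5, 2, 1],
  [5, 2, 4], [5, 3, 4], [5, 4, 1], [5, 4, 3], [5, 4, 5], [0, 1, 2, 3], [0, 1, 2, 4], [0, 1, 3, 0],
  [0, 1, 3, 2], [0, 1, 3, 4], [0, 1, 4, 1], [0, 1, 4, 2]], [[0, 1, 4, 3], [0, 1, 4, 5], [0, 2, 0,
  3], [0, 2, 1, 3], [0, 2, 3, 2], [0, 2, 3, 5], [0, 2, 4, 1], [0, 2, 4, 3], [0, 2, 4, 5], [0, 2,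
  5, 2], [0, 2, 5, 4], [0, 3, 0, 4], [0, 3, 2, 1], [0, 3, 2, 4], [0, 3, 2, 5], [0, 3, 4, 1], [0,
  3, 4, 2], [0, 3, 4, 5]], [[0, 3, 5, 4], [0, 4, 1, 3], [0, 4, 2, 1], [0, 4, 2, 5], [0, 4, 3, 5],
  [0, 4, 5, 2], [0, 5, 2, 4], [0, 5, 3, 4], [0, 5, 4, 1], [0, 5, 4, 3], [1, 2, 3, 5], [1, 2, 4,
  1], [1, 2, 4, 3], [1, 2, 4, 5], [1, 2, 5, 2], [1, 2, 5, 4], [1, 3, 0, 4], [1, 3, 2, 4]], [[1, 3,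
  2, 5], [1, 3, 4, 1], [1, 3, 4, 2], [1, 3, 4, 5], [1, 3, 5, 4], [1, 4, 1, 3], [1, 4, 1, 5], [1,
  4, 2, 1], [1, 4, 2, 5], [1, 4, 3, 5], [1, 4, 5, 1], [1, 4, 5, 2], [1, 4, 5, 4], [1, 5, 2, 4],
  [1, 5, 3, 4], [1, 5, 4, 1], [1, 5, 4, 3], [1, 5, 4, 5]], [[2, 0, 3, 5], [2, 1, 3, 5], [2, 3, 5,
  1], [2, 4, 1, 3], [2, 4, 1, 5], [2, 4, 3, 5], [2, 4, 5, 1], [2, 4, 5, 2], [2, 4, 5, 4], [2, 5,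
  1, 4], [2, 5, 2, 1], [2, 5, 2, 4], [2, 5, 4, 1], [2, 5, 4, 3], [2, 5, 4, 5], [3, 0, 4, 1], [3,
  2, 4, 1], [3, 2, 5, 1]], [[3, 2, 5, 4], [3, 4, 1, 5], [3, 4, 2, 1], [3, 4, 2, 5], [3, 4, 5, 1],
  [3, 4, 5, 4], [3, 5, 1, 4], [3, 5, 4, 1], [3, 5, 4, 5], [4, 1, 3, 4], [4, 1, 3, 5], [4, 1, 5,
  2], [4, 1, 5, 3], [4, 1, 5, 4], [4, 2, 5, 1], [4, 2, 5, 4], [4, 3, 5, 1], [4, 3, 5, 4]], [[4, 5,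
  1, 4], [4, 5, 2, 1], [4, 5, 2, 4], [4, 5, 4, 1], [5, 1, 3, 2], [5, 1, 3, 4], [5, 1, 4, 1], [5,
  1, 4, 2], [5, 1, 4, 3], [5, 2, 4, 1], [5, 2, 4, 5], [5, 3, 4, 1], [5, 3, 4, 5], [5, 4, 1, 3],
  [5, 4, 3, 5], [5, 4, 5, 1], [5, 4, 5, 2], [0, 1, 2, 4, 1]], [[0, 1, 2, 4, 3], [0, 1, 2, 4, 5],
  [0, 1, 3, 0, 4], [0, 1, 3, 2, 4], [0, 1, 3, 4, 1], [0, 1, 3, 4, 2], [0, 1, 3, 4, 5], [0, 1, 4,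
  1, 3], [0, 1, 4, 2, 1], [0, 1, 4, 2, 5], [0, 1, 4, 3, 5], [0, 1, 4, 5, 2], [0, 2, 0, 3, 5], [0,
  2, 4, 1, 3], [0, 2, 4, 3, 5], [0, 2, 4, 5, 2], [0, 2, 5, 2, 4], [0, 2, 5, 4, 1]], [[0, 2, 5, 4,
  3], [0, 3, 0, 4, 1], [0, 3, 2, 4, 1], [0, 3, 2, 5, 4], [0, 3, 4, 1, 5], [0, 3, 4, 2, 1], [0, 3,
  4, 2, 5], [0, 3, 4, 5, 1], [0, 3, 5, 4, 1], [0, 3, 5, 4, 5], [0, 4, 1, 3, 4], [0, 5, 2, 4, 1],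
  [0, 5, 3, 4, 1], [0, 5, 4, 1, 3], [1, 2, 4, 1, 5], [1, 2, 4, 3, 5], [1, 2, 4, 5, 1], [1, 2, 4,
  5, 2]], [[1, 2, 4, 5, 4], [1, 2, 5, 2, 4], [1, 2, 5, 4, 1], [1, 2, 5, 4, 3], [1, 2, 5, 4, 5],
  [1, 3, 0, 4, 1], [1, 3, 2, 4, 1], [1, 3, 2, 5, 4], [1, 3, 4, 1, 5], [1, 3, 4, 2, 1], [1, 3, 4,
  2, 5], [1, 3, 4, 5, 1], [1, 3, 4, 5, 4], [1, 3, 5, 4, 1], [1, 3, 5, 4, 5], [1, 4, 1, 3, 5], [1,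
  4, 1, 5, 2], [1, 4, 1, 5, 3]], [[1, 4, 1, 5, 4], [1, 4, 2, 5, 1], [1, 4, 2, 5, 4], [1, 4, 3, 5,
  1], [1, 4, 3, 5, 4], [1, 4, 5, 1, 4], [1, 4, 5, 2, 1], [1, 4, 5, 2, 4], [1, 4, 5, 4, 1], [1, 5,
  2, 4, 1], [1, 5, 2, 4, 5], [1, 5, 3, 4, 1], [1, 5, 3, 4, 5], [1, 5, 4, 1, 3], [1, 5, 4, 3, 5],
  [1, 5, 4, 5, 1], [1, 5, 4, 5, 2], [2, 3, 5, 1, 4]], [[2, 4, 1, 3, 5], [2, 4, 1, 5, 4], [2, 4, 3,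
  5, 1], [2, 4, 3, 5, 4], [2, 4, 5, 1, 4], [2, 4, 5, 4, 1], [2, 5, 1, 4, 1], [2, 5, 1, 4, 3], [2,
  5, 2, 4, 1], [2, 5, 2, 4, 5], [2, 5, 4, 1, 3], [2, 5, 4, 3, 5], [2, 5, 4, 5, 1], [3, 2, 5, 4,
  1], [3, 4, 1, 5, 3], [3, 4, 1, 5, 4], [3, 4, 2, 5, 1], [3, 4, 2, 5, 4]], [[3, 4, 5, 1, 4], [3,
  4, 5, 4, 1], [3, 5, 1, 4, 1], [3, 5, 4, 5, 1], [4, 1, 3, 4, 5], [4, 1, 3, 5, 4], [4, 1, 5, 2,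
  4], [4, 1, 5, 3, 4], [4, 1, 5, 4, 1], [4, 1, 5, 4, 3], [4, 2, 5, 1, 4], [4, 2, 5, 4, 1], [4, 3,
  5, 1, 4], [4, 3, 5, 4, 1], [4, 5, 1, 4, 1], [4, 5, 1, 4, 2], [4, 5, 1, 4, 3], [4, 5, 2, 4, 1]],
  [[5, 1, 3, 2, 4], [5, 1, 3, 4, 1], [5, 1, 4, 1, 3], [5, 1, 4, 2, 1], [5, 1, 4, 2, 5], [5, 2, 4,
  1, 5], [5, 2, 4, 5, 1], [5, 3, 4, 5, 1], [5, 4, 1, 3, 4], [5, 4, 3, 5, 1], [5, 4, 5, 2, 1], [0,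
  1, 2, 4, 3, 5], [0, 1, 2, 4, 5, 2], [0, 1, 3, 0, 4, 1], [0, 1, 3, 2, 4, 1], [0, 1, 3, 4, 1, 5],
  [0, 1, 3, 4, 2, 1], [0, 1, 3, 4, 2, 5]], [[0, 1, 3, 4, 5, 1], [0, 2, 5, 2, 4, 1], [0, 2, 5, 4,
  1, 3], [0, 3, 2, 5, 4, 1], [0, 3, 4, 1, 5, 4], [0, 3, 4, 5, 1, 4], [0, 4, 1, 3, 4, 5], [0, 5, 4,
  1, 3, 4], [1, 2, 4, 1, 5, 4], [1, 2, 4, 3, 5, 1], [1, 2, 4, 3, 5, 4], [1, 2, 4, 5, 1, 4], [1, 2,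
  4, 5, 4, 1], [1, 2, 5, 2, 4, 5], [1, 2, 5, 4, 1, 3], [1, 2, 5, 4, 3, 5], [1, 2, 5, 4, 5, 1], [1,
  3, 2, 5, 4, 1]], [[1, 3, 4, 1, 5, 3], [1, 3, 4, 1, 5, 4], [1, 3, 4, 2, 5, 4], [1, 3, 4, 5, 1,
  4], [1, 3, 4, 5, 4, 1], [1, 3, 5, 4, 5, 1], [1, 4, 1, 3, 5, 4], [1, 4, 1, 5, 2, 4], [1, 4, 1, 5,
  3, 4], [1, 4, 1, 5, 4, 1], [1, 4, 1, 5, 4, 3], [1, 4, 2, 5, 1, 4], [1, 4, 2, 5, 4, 1], [1, 4, 3,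
  5, 1, 4], [1, 4, 3, 5, 4, 1], [1, 4, 5, 1, 4, 1], [1, 4, 5, 1, 4, 2], [1, 4, 5, 1, 4, 3]], [[1,
  4, 5, 2, 4, 1], [1, 5, 2, 4, 1, 5], [1, 5, 2, 4, 5, 1], [1, 5, 3, 4, 5, 1], [1, 5, 4, 3, 5, 1],
  [1, 5, 4, 5, 2, 1], [2, 4, 1, 5, 4, 1], [2, 4, 3, 5, 1, 4], [2, 4, 3, 5, 4, 1], [2, 4, 5, 1, 4,
  1], [2, 5, 1, 4, 1, 3], [2, 5, 2, 4, 1, 5], [2, 5, 2, 4, 5, 1], [2, 5, 4, 1, 3, 4], [2, 5, 4, 3,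
  5, 1], [3, 4, 1, 5, 3, 4], [3, 4, 1, 5, 4, 1], [3, 4, 5, 1, 4, 1]], [[4, 1, 3, 5, 4, 1], [4, 1,
  3, 5, 4, 5], [4, 1, 5, 2, 4, 1], [4, 1, 5, 3, 4, 1], [4, 1, 5, 4, 1, 3], [4, 2, 5, 1, 4, 1], [4,
  3, 5, 1, 4, 1], [4, 5, 1, 4, 1, 3], [4, 5, 1, 4, 2, 1], [4, 5, 1, 4, 2, 5], [5, 2, 4, 1, 5, 4],
  [5, 2, 4, 5, 1, 4], [5, 4, 1, 3, 4, 5], [0, 1, 3, 4, 1, 5, 4], [0, 1, 3, 4, 5, 1, 4], [0, 5, 4,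
  1, 3, 4, 5], [1, 2, 4, 1, 5, 4, 1], [1, 2, 4, 3, 5, 4, 1]], [[1, 2, 4, 5, 1, 4, 1], [1, 2, 5, 2,
  4, 5, 1], [1, 3, 4, 1, 5, 4, 1], [1, 3, 4, 5, 1, 4, 1], [1, 4, 1, 3, 5, 4, 1], [1, 4, 1, 5, 2,
  4, 1], [1, 4, 1, 5, 3, 4, 1], [1, 4, 1, 5, 4, 1, 3], [1, 4, 2, 5, 1, 4, 1], [1, 4, 3, 5, 1, 4,
  1], [1, 4, 5, 1, 4, 1, 3], [1, 4, 5, 1, 4, 2, 1], [1, 5, 2, 4, 1, 5, 4], [1, 5, 2, 4, 5, 1, 4],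
  [2, 4, 3, 5, 1, 4, 1], [2, 5, 2, 4, 5, 1, 4], [4, 1, 3, 5, 4, 5, 1], [4, 1, 5, 2, 4, 1, 5]]]

/-- elements `u` with the conjugate under the seventh letter, with words in five letters -/
def domTab : List (Nat × Nat × List Nat × List Nat) :=
  [(0, 0, [], []), (1, 7, [0], [0, 1]), (2, 2, [1], [1]), (3, 106, [2], [0, 1, 4, 1]), (5, 37,
  [4], [0, 2, 1]), (7, 1, [0, 1], [0]), (8, 25, [0, 2], [4, 1]), (10, 36, [0, 4], [0, 2, 0]), (12,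
  45, [1, 2], [0, 4, 1]), (14, 16, [1, 4], [2, 0]), (16, 14, [2, 0], [1, 4]), (17, 35, [2, 1], [0,
  1, 4]), (19, 53, [2, 4], [1, 2, 4]), (25, 8, [4, 1], [0, 2]), (26, 87, [4, 2], [4, 2, 1]), (33,
  59, [0, 1, 2], [1, 4, 1]), (35, 17, [0, 1, 4], [2, 1]), (36, 10, [0, 2, 0], [0, 4]), (37, 5, [0,
  2, 1], [4]), (39, 39, [0, 2, 4], [0, 2, 4]), (45, 12, [0, 4, 1], [1, 2]), (46, 224, [0, 4, 2],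
  [0, 1, 4, 2, 1]), (53, 19, [1, 2, 4], [2, 4]), (59, 33, [1, 4, 1], [0, 1, 2]), (60, 151, [1, 4,
  2], [1, 4, 2, 1]), (70, 137, [2, 4, 1], [1, 2, 4, 1]), (87, 26, [4, 2, 1], [4, 2]), (102, 102,
  [0, 1, 2, 4], [0, 1, 2, 4]), (106, 3, [0, 1, 4, 1], [2]), (107, 128, [0, 1, 4, 2], [0, 4, 2,
  1]), (114, 114, [0, 2, 4, 1], [0, 2, 4, 1]), (128, 107, [0, 4, 2, 1], [0, 1, 4, 2]), (137, 70,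
  [1, 2, 4, 1], [2, 4, 1]), (151, 60, [1, 4, 2, 1], [1, 4, 2]), (215, 215, [0, 1, 2, 4, 1], [0, 1,
  2, 4, 1]), (224, 46, [0, 1, 4, 2, 1], [0, 4, 2])]

/-- the relator of the second group -/
def brelTab : List (Option (Nat × List Nat)) :=
  [none, some (4, [3]), none, some (4, [3]), none, some (4, [3])]

end CfsgLib.ThreeAmalgam.Bound
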