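import Cfsg.Agent.Lib.ThreeAmalgam.Basic
import Cfsg.Agent.Lib.PresCert.Sound
import Cfsg.Agent.Lib.ThreeAmalgam.Bound.PlaneACert
import Cfsg.Agent.Lib.ThreeAmalgam.Bound.PlaneBCert
import Cfsg.Agent.Lib.ThreeAmalgam.Bound.CommonData

/-!
# The two plane groups

The certified tables of the groups generated by six of the letters give maps from numbers below
`432` that respect multiplication by letters.
-/

set_option autoImplicit false
set_option maxRecDepth 100000

namespace CfsgLib.ThreeAmalgam.Bound

open CfsgLib.PresCert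

universe u

/-- the letters of the second table -/
def selB (x : Nat) : Fin 7 := [0, 1, 2, 3, 4, 6].getD x 0

/-- the letters of the first table -/
def selA (x : Nat) : Fin 7 := [0, 1, 2, 3, 4, 5].getD x 0

/-- follow a word in the first table -/
noncomputable def walkA (c : Nat) (w : List Nat) : Nat := w.foldl PlaneA.cert.dest c

/-- follow a word in the second table -/
noncomputable def walkB (c : Nat) (w : List Nat) : Nat := w.foldl PlaneB.cert.dest c

/-- the word of an element -/
def wordOf (a : Nat) : List Nat := (wordTab.getD (a / 18) []).getD (a % 18) []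

/-- the product in the first group -/
noncomputable def mulA (a b : Nat) : Nat := walkA a (wordOf b)

/-- the inverse in the first group -/
noncomputable def invA (a : Nat) : Nat := walkA 0 (wordOf a).reverse

theorem wordOf_check : ((List.range 432).all fun a =>
    (wordOf a).all (fun x => Nat.blt x 6) && Nat.beq (walkA 0 (wordOf a)) a) = true := by
  decide +kernel

theorem plane_facts : (PlaneA.cert.n = 432 ∧ PlaneA.cert.g = 6 ∧ PlaneA.cert.subs = [] ∧
      ∀ x < 6, PlaneA.cert.iv x = x) ∧
    (PlaneB.cert.n = 432 ∧ PlaneB.cert.g = 6 ∧ PlaneB.cert.subs = [] ∧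
      ∀ x < 6, PlaneB.cert.iv x = x) := by decide +kernel

theorem plane_rels : (PlaneA.cert.rels.all fun r => r.all (fun x => Nat.blt x 6) &&
      base.contains (r.map selA)) = true ∧
    (PlaneB.cert.rels.all fun r => r.all (fun x => Nat.blt x 6) &&
      base.contains (r.map selB)) = true := by decide +kernel

/-- The values of the cosets of a table over the trivial subgroup. -/
theorem exists_values {Q : Type u} [Group Q] {C : Cert} {js : List Cert.Just}
    (V : Cert.Valid C js) (f : Nat → Q) (hg : C.g = 6) (hiv : ∀ x < 6, C.iv x = x)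
    (hs : C.subs = []) (hf : ∀ x < 6, f x * f x = 1)
    (hr : ∀ r ∈ C.rels, (∀ x ∈ r, x < 6) ∧ (r.map f).prod = 1) :
    ∃ vv : Nat → Q, vv 0 = 1 ∧ ∀ c < C.n, ∀ x < 6,
      C.dest c x < C.n ∧ vv c * f x = vv (C.dest c x) := by
  let K : Subgroup Q := Subgroup.closure {q | ∃ x < C.g, f x = q}
  let gen : Nat → K := fun x =>
    if hx : x < C.g then ⟨f x, Subgroup.subset_closure ⟨x, hx, rfl⟩⟩ else 1
  have hgen : ∀ x < C.g, (gen x : Q) = f x := fun x hx => by simp [gen, hx]
  let M : Model C K :=
    { gen := gen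
      gen_inv := fun x hx => by
        rw [hiv x (hg ▸ hx)]
        refine ⟨hx, Subtype.ext ?_⟩
        rw [Subgroup.coe_inv, hgen x hx]
        exact eq_inv_of_mul_eq_one_left (hf x (hg ▸ hx))
      rels_eq := fun r hr' => by
        obtain ⟨h1, h2⟩ := hr r hr'
        refine ⟨fun x hx => hg.symm ▸ h1 x hx, Subtype.ext ?_⟩
        rw [SubmonoidClass.coe_list_prod, List.map_map, Subgroup.coe_one, ← h2]
        exact congrArg _ (List.map_congr_left fun x hx => hgen x (hg.symm ▸ h1 x hx))
      sub := ⊥
      subs_mem := fun r hr' => by simp [hs] at hr'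
      closure_gen := by
        rw [eq_top_iff]
        rintro ⟨q, hq⟩ -
        induction hq using Subgroup.closure_induction'' with
        | mem q hq =>
          obtain ⟨x, hx, rfl⟩ := hq
          exact Subgroup.subset_closure ⟨x, hx, Subtype.ext (hgen x hx)⟩
        | inv_mem q hq =>
          obtain ⟨x, hx, rfl⟩ := hq
          refine Subgroup.subset_closure ⟨x, hx, Subtype.ext ?_⟩
          rw [hgen x hx]
          exact eq_inv_of_mul_eq_one_left (hf x (hg ▸ hx))
        | one => exact one_mem _
        | mul a b ha hb iha ihb => exact mul_mem iha ihb }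
  refine ⟨fun c => ((Cert.val M c : K) : Q), rfl, fun c hc x hx => ?_⟩
  have hx' : x < C.g := hg.symm ▸ hx
  have h := Cert.slots_ok M V _ c x hc hx' rfl
  simp only [Cert.SlotOK, Cert.Rel, M, Subgroup.mem_bot, mul_inv_eq_one] at h
  refine ⟨Cert.dest_lt V hc hx', ?_⟩
  have h' := congrArg (fun q : K => (q : Q)) h
  simpa [hgen x hx'] using h'

/-- What is used of the two tables. -/
structure Planes {Q : Type u} [Group Q] (L : Fin 7 → Q) where
  /-- the values in the first group -/
  vA : Nat → Q
  /-- the values in the second group -/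
  vB : Nat → Q
  invol : ∀ k, L k * L k = 1
  zero : vA 0 = 1
  zeroB : vB 0 = 1
  stepA : ∀ c < 432, ∀ x < 6, PlaneA.cert.dest c x < 432 ∧
    vA c * L (selA x) = vA (PlaneA.cert.dest c x)
  stepB : ∀ c < 432, ∀ x < 6, PlaneB.cert.dest c x < 432 ∧
    vB c * L (selB x) = vB (PlaneB.cert.dest c x)

variable {Q : Type u} [Group Q] {L : Fin 7 → Q}

theorem exists_planes (hr : ∀ w ∈ base, val L w = 1) (hf : ∀ k, L k * L k = 1) :
    Nonempty (Planes L) := by
  have hrel : ∀ (sel : Nat → Fin 7) (R : List (List Nat)),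
      (R.all fun r => r.all (fun x => Nat.blt x 6) && base.contains (r.map sel)) = true →
      ∀ r ∈ R, (∀ x ∈ r, x < 6) ∧ (r.map fun x => L (sel x)).prod = 1 := by
    intro sel R h r hr'
    have h' := List.all_eq_true.1 h r hr'
    simp only [Bool.and_eq_true, List.all_eq_true, Nat.blt_eq, List.contains_iff_mem] at h'
    have := hr _ h'.2
    rw [val, List.map_map] at this
    exact ⟨h'.1, this⟩
  obtain ⟨⟨na, ga, sa, ia⟩, ⟨nb, gb, sb, ib⟩⟩ := plane_facts
  obtain ⟨va, za, ha⟩ := exists_values PlaneA.valid (fun x => L (selA x)) ga ia sa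
    (fun x _ => hf _) (hrel selA _ plane_rels.1)
  obtain ⟨vb, zb, hb⟩ := exists_values PlaneB.valid (fun x => L (selB x)) gb ib sb
    (fun x _ => hf _) (hrel selB _ plane_rels.2)
  exact ⟨⟨va, vb, hf, za, zb, fun c hc x hx => na ▸ ha c (na.symm ▸ hc) x hx,
    fun c hc x hx => nb ▸ hb c (nb.symm ▸ hc) x hx⟩⟩

namespace Planes

variable (P : Planes L)
include P

theorem walkA_spec (w : List Nat) (hw : ∀ x ∈ w, x < 6) : ∀ c < 432,
    walkA c w < 432 ∧ P.vA c * (w.map fun x => L (selA x)).prod = P.vA (walkA c w) := by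
  induction w with
  | nil => intro c hc; exact ⟨hc, by simp [walkA]⟩
  | cons x w ih =>
    intro c hc
    obtain ⟨h1, h2⟩ := P.stepA c hc x (hw x List.mem_cons_self)
    obtain ⟨h3, h4⟩ := ih (fun y hy => hw y (List.mem_cons_of_mem _ hy)) _ h1
    exact ⟨h3, by rw [List.map_cons, List.prod_cons, ← mul_assoc, h2]; exact h4⟩

theorem walkB_spec (w : List Nat) (hw : ∀ x ∈ w, x < 6) : ∀ c < 432,
    walkB c w < 432 ∧ P.vB c * (w.map fun x => L (selB x)).prod = P.vB (walkB c w) := by
  induction w with
  | nil => intro c hc; exact ⟨hc, by simp [walkB]⟩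
  | cons x w ih =>
    intro c hc
    obtain ⟨h1, h2⟩ := P.stepB c hc x (hw x List.mem_cons_self)
    obtain ⟨h3, h4⟩ := ih (fun y hy => hw y (List.mem_cons_of_mem _ hy)) _ h1
    exact ⟨h3, by rw [List.map_cons, List.prod_cons, ← mul_assoc, h2]; exact h4⟩

omit P in
theorem word_lt {a : Nat} (ha : a < 432) :
    (∀ x ∈ wordOf a, x < 6) ∧ walkA 0 (wordOf a) = a := by
  have h := List.all_eq_true.1 wordOf_check a (List.mem_range.2 ha)
  simp only [Bool.and_eq_true, List.all_eq_true, Nat.blt_eq] at h
  exact ⟨h.1, Nat.eq_of_beq_eq_true h.2⟩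

theorem vA_word {a : Nat} (ha : a < 432) :
    P.vA a = ((wordOf a).map fun x => L (selA x)).prod := by
  have h := (P.walkA_spec _ (word_lt ha).1 0 (by norm_num)).2
  rw [P.zero, one_mul, (word_lt ha).2] at h
  exact h.symm

theorem mul_spec {a b : Nat} (ha : a < 432) (hb : b < 432) :
    mulA a b < 432 ∧ P.vA (mulA a b) = P.vA a * P.vA b := by
  obtain ⟨h1, h2⟩ := P.walkA_spec _ (word_lt hb).1 a ha
  exact ⟨h1, by rw [P.vA_word hb, h2]; rfl⟩

theorem inv_spec {a : Nat} (ha : a < 432) : invA a < 432 ∧ P.vA (invA a) = (P.vA a)⁻¹ := by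
  obtain ⟨h1, h2⟩ := P.walkA_spec (wordOf a).reverse
    (fun x hx => (word_lt ha).1 x (List.mem_reverse.1 hx)) 0 (by norm_num)
  refine ⟨h1, ?_⟩
  rw [invA, ← h2, P.zero, one_mul, P.vA_word ha]
  generalize wordOf a = w
  induction w with
  | nil => simp
  | cons x w ih =>
    simp only [List.reverse_cons, List.map_append, List.prod_append, ih, List.map_cons,
      List.map_nil, List.prod_cons, List.prod_nil, mul_one, _root_.mul_inv_rev,
      inv_eq_of_mul_eq_one_right (P.invol _)]

end Planes

end CfsgLib.ThreeAmalgam.Bound
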